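import Cfsg.Agent.RootInvolutions.OddCommon.Clique52

/-!
Two non-commuting members of a connected class of odd transpositions with a line have a common
neighbour (the shape of S5050), given the strong embedding criterion.
-/

set_option autoImplicit false

universe u

namespace CfsgLib.RootInv.OddCommon

open Cfsg CfsgLib.RootInv CfsgLib.RootInv99

variable {G : Type u} [Group G] [Finite G] {D : Set G}

/-- The configuration is impossible. -/
theorem Config.absurd_config (hS : Step D) {d e b f x w w' i i' : G}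
    (C : Config D d e b f x w w' i i') : False := by
  have hD := hS.ot
  obtain ⟨y, hy, hyi, hfix⟩ := C.exists_fixing hS
  obtain ⟨hdb, heb, hfb, -, -, -, -, -, -⟩ := C.facts hD
  obtain ⟨hex, hbx, -, -⟩ := C.apart hD
  obtain ⟨hj2, hjZ, hjy, hjx, hje, hjb, hjf⟩ := C.mover_spec hS hy
  have hdK : d ∈ C.clique := ⟨C.memD, C.dx, Commute.refl d, C.de, hdb, C.wd.symm, C.wd'.symm⟩
  have hdA : d ∈ C.cliqueGroup := Subgroup.subset_closure hdK
  set j := C.mover y
  have haA : d⁻¹ * (j * d * j⁻¹) ∈ C.cliqueGroup :=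
    mul_mem (inv_mem hdA) (C.mover_group hS hy hyi hdA)
  obtain ⟨-, -, hyx, hyd, hye, hyb, -, -⟩ := _root_.id hy
  have hxc : x ∈ comp D y x := self_mem_comp C.memX hyx.symm
  have hec := mem_comp_of_not_commute hD hxc C.line.1 hye.symm hex
  have hbc := mem_comp_of_not_commute hD hxc C.line.2.1 hyb.symm hbx
  have hdc := mem_comp_of_not_commute hD hxc C.memD hyd.symm C.dx
  have hd'c : j * d * j⁻¹ ∈ comp D y x := conj_mem_comp hD hjy hjx hdc
  have hdisc := C.disc hS hy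
  set X := compGroup D y x
  let x₀ : X := ⟨x, Subgroup.subset_closure hxc⟩
  let e₀ : X := ⟨e, Subgroup.subset_closure hec⟩
  let b₀ : X := ⟨b, Subgroup.subset_closure hbc⟩
  let d₀ : X := ⟨d, Subgroup.subset_closure hdc⟩
  let d₁ : X := ⟨j * d * j⁻¹, Subgroup.subset_closure hd'c⟩
  obtain ⟨F⟩ := hdisc.nonempty_frame (e := e₀) (x := x₀) hec hxc
    (fun h => hex (congrArg Subtype.val h.eq : x * e = e * x).symm)
  have hmem : (⟨d⁻¹ * (j * d * j⁻¹), C.cliqueGroup_le hD hy hyi haA⟩ : X) ∈ twoZCore X :=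
    (F.mem_core_iff (C.lift_mem hD hy hyi rfl haA)).mpr (Subtype.ext hfix.eq)
  have hbar : bar d₀ = bar d₁ := by
    have h := bar_eq_one.mpr hmem
    rw [show (⟨d⁻¹ * (j * d * j⁻¹), C.cliqueGroup_le hD hy hyi haA⟩ : X) = d₀⁻¹ * d₁ from rfl,
      map_mul, map_inv, inv_mul_eq_one] at h
    exact h
  have hd0 : d₀ ∈ compSet D y x := hdc
  have hd0e : Commute d₀ e₀ := Subtype.ext C.de.eq
  have hd1e : Commute d₁ e₀ :=
    Subtype.ext (((hje.mul_left C.de).mul_left hje.inv_left).eq)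
  have hb0e : Commute b₀ e₀ := Subtype.ext heb.symm.eq
  have hne : bar b₀ ≠ bar e₀ := by
    intro h
    refine hdisc.bar_ne_one (u := e₀ * b₀) (mem_comp_of_not_commute hD hxc C.line.2.2
      (hye.symm.mul_left hyb.symm) fun hc => hex ?_) ?_
    · exact (commute_of_line hD (Line.symm hD.1 (Line.third hD.1 C.line)) C.memX hc.symm).symm
    · rw [map_mul, h, ← map_mul, mul_self hdisc.ot.1 hec, map_one]
  obtain ⟨m, hm, hbm, hinv⟩ := F.exists_inverter (v := b₀) hbc hb0e hne hd0 hd0e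
  obtain ⟨hodd, hs1⟩ := F.odd_prod (u := b₀) hbc hb0e hne
  -- the conjugate of `m` is another inverter with the same image
  have hm' : j * (m : G) * j⁻¹ ∈ comp D y x := conj_mem_comp hD hjy hjx hm
  let m' : X := ⟨j * (m : G) * j⁻¹, Subgroup.subset_closure hm'⟩
  have hjx' : j * x * j⁻¹ = x := by rw [hjx.eq, mul_inv_cancel_right]
  have hje' : j * e * j⁻¹ = e := by rw [hje.eq, mul_inv_cancel_right]
  have hjb' : j * b * j⁻¹ = b := by rw [hjb.eq, mul_inv_cancel_right]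
  have hsj : j * ((mid x₀ e₀ * mid x₀ b₀ : X) : G) * j⁻¹ = ((mid x₀ e₀ * mid x₀ b₀ : X) : G) := by
    rw [Subgroup.coe_mul, coe_mid, coe_mid]
    show j * (mid x e * mid x b) * j⁻¹ = mid x e * mid x b
    rw [show j * (mid x e * mid x b) * j⁻¹ = j * mid x e * j⁻¹ * (j * mid x b * j⁻¹) by group,
      mid_conj, mid_conj, hjx', hje', hjb']
  have hinv' : m' * (mid x₀ e₀ * mid x₀ b₀) * m'⁻¹ = (mid x₀ e₀ * mid x₀ b₀)⁻¹ := by
    refine Subtype.ext ?_
    have h1 : (m : G) * ((mid x₀ e₀ * mid x₀ b₀ : X) : G) * (m : G)⁻¹ =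
        ((mid x₀ e₀ * mid x₀ b₀ : X) : G)⁻¹ := congrArg Subtype.val hinv
    show j * (m : G) * j⁻¹ * ((mid x₀ e₀ * mid x₀ b₀ : X) : G) * (j * (m : G) * j⁻¹)⁻¹ =
      ((mid x₀ e₀ * mid x₀ b₀ : X) : G)⁻¹
    generalize ((mid x₀ e₀ * mid x₀ b₀ : X) : G) = s at h1 hsj
    conv_lhs => rw [← hsj]
    rw [show j * (m : G) * j⁻¹ * (j * s * j⁻¹) * (j * (m : G) * j⁻¹)⁻¹ =
      (j * ((m : G) * s * (m : G)⁻¹)⁻¹ * j⁻¹)⁻¹ by group, h1, inv_inv, hsj]
  -- `d* = m x m` lies over `d` and so does its conjugate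
  have hx0 : x₀ ∈ compSet D y x := hxc
  have hdx0 : ¬ Commute x₀ d₀ := fun h => C.dx (congrArg Subtype.val h.eq : x * d = d * x).symm
  let u₀ : X := m * x₀ * m
  have hu0 : u₀ ∈ compSet D y x := conj_self_mem hdisc.ot.1 hm hx0
  have hub : bar u₀ = bar d₀ := by
    show bar (m * x₀ * m) = _
    rw [map_mul, map_mul, hbm, ← map_mul, ← map_mul, mid_spec hdisc.ot hx0 hd0 hdx0]
  have hu0e : Commute u₀ e₀ := (F.bar_mem_iff hu0).mp (hub ▸ (F.bar_mem_iff hd0).mpr hd0e)
  have huK : (u₀ : G) ∈ C.clique :=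
    C.mem_clique_of hS hy hu0 (congrArg Subtype.val hu0e.eq : _)
  have huA : (u₀ : G) ∈ C.cliqueGroup := Subgroup.subset_closure huK
  have hju : bar (m' * x₀ * m') = bar d₀ := by
    have hval : ((m' * x₀ * m' : X) : G) = j * (u₀ : G) * j⁻¹ := by
      show j * (m : G) * j⁻¹ * x * (j * (m : G) * j⁻¹) = j * ((m : G) * x * (m : G)) * j⁻¹
      rw [show j * ((m : G) * x * (m : G)) * j⁻¹ =
        j * (m : G) * j⁻¹ * (j * x * j⁻¹) * (j * (m : G) * j⁻¹) by group, hjx']
    have hA : d⁻¹ * (u₀ : G) ∈ C.cliqueGroup := mul_mem (inv_mem hdA) huA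
    have h1 : (⟨d⁻¹ * (u₀ : G), C.cliqueGroup_le hD hy hyi hA⟩ : X) ∈ twoZCore X := by
      refine bar_eq_one.mp ?_
      rw [show (⟨d⁻¹ * (u₀ : G), C.cliqueGroup_le hD hy hyi hA⟩ : X) = d₀⁻¹ * u₀ from rfl,
        map_mul, map_inv, hub, inv_mul_cancel]
    have h2 : Commute (d⁻¹ * (u₀ : G) * x * (d⁻¹ * (u₀ : G))⁻¹) x :=
      (congrArg Subtype.val ((F.mem_core_iff (C.lift_mem hD hy hyi rfl hA)).mp h1).eq : _)
    have hA' := C.mover_group hS hy hyi hA
    have h3 : (⟨j * (d⁻¹ * (u₀ : G)) * j⁻¹, C.cliqueGroup_le hD hy hyi hA'⟩ : X) ∈ twoZCore X := by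
      refine (F.mem_core_iff (C.lift_mem hD hy hyi rfl hA')).mpr (Subtype.ext ?_)
      have := (Commute.conj_iff j).mpr h2
      rw [show j * (d⁻¹ * (u₀ : G) * x * (d⁻¹ * (u₀ : G))⁻¹) * j⁻¹ =
        j * (d⁻¹ * (u₀ : G)) * j⁻¹ * (j * x * j⁻¹) * (j * (d⁻¹ * (u₀ : G)) * j⁻¹)⁻¹ by group,
        hjx'] at this
      exact this.eq
    have h4 : (⟨j * (d⁻¹ * (u₀ : G)) * j⁻¹, C.cliqueGroup_le hD hy hyi hA'⟩ : X) =
        d₁⁻¹ * (m' * x₀ * m') := Subtype.ext (by
      show _ = (j * d * j⁻¹)⁻¹ * ((m' * x₀ * m' : X) : G)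
      rw [hval]; group)
    have := bar_eq_one.mpr h3
    rw [h4, map_mul, map_inv, inv_mul_eq_one] at this
    rw [← this, hbar]
  have hodd' : ∀ k ∈ compSet D y x, bar (k * x₀ * k) = bar d₀ → Odd (orderOf (bar x₀ * bar k)) := by
    intro k hk hkd
    rw [← map_mul]
    refine (odd_of_not_commute hdisc.ot hx0 hk fun hc => hdx0 ?_).of_dvd_nat (orderOf_map_dvd _ _)
    refine hdisc.commute_of_bar hx0 hd0 ?_
    rw [← hkd, ← hc.eq, mul_assoc, mul_self hdisc.ot.1 hk, mul_one]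
  have hmm : bar m = bar m' := by
    refine RootPoints.eq_of_conj_eq (hodd' m hm hub) (hodd' m' hm' hju) ?_
    rw [← map_mul, ← map_mul, ← map_mul, ← map_mul, hju]
    exact hub
  have heq : m = m' := F.inverter_unique hm hm' (hdisc.commute_of_bar hm hm' (hmm ▸ Commute.refl _))
    hodd (fun h => hs1 (by rw [h, map_one])) hinv hinv'
  -- so `j` centralises `u₀`, a conjugate of `d` under an element fixing `x`
  obtain ⟨q, hqx, hqd⟩ := F.exists_conj_fibre hu0 hu0e hd0 hd0e hub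
  have hju0 : Commute (u₀ : G) j := by
    have hmj : Commute (m : G) j := by
      have h1 : (m : G) = j * (m : G) * j⁻¹ := congrArg Subtype.val heq
      exact (mul_inv_eq_iff_eq_mul.mp h1.symm).symm
    show Commute ((m : G) * x * (m : G)) j
    exact (hmj.mul_left hjx.symm).mul_left hmj
  have hux : ¬ Commute (u₀ : G) x := huK.2.1
  have hbad : ¬ Common D (u₀ : G) x := fun h => C.bad (by
    have h1 : (q : G) * x * (q : G)⁻¹ = x := congrArg Subtype.val hqx
    have h2 : (q : G) * d * (q : G)⁻¹ = (u₀ : G) := congrArg Subtype.val hqd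
    have := h.conj hD.1 (q : G)⁻¹
    rw [← h2, show (q : G)⁻¹ * ((q : G) * d * (q : G)⁻¹) * (q : G)⁻¹⁻¹ = d by group] at this
    have h3 : (q : G)⁻¹ * x * (q : G)⁻¹⁻¹ = x :=
      calc (q : G)⁻¹ * x * (q : G)⁻¹⁻¹ = (q : G)⁻¹ * ((q : G) * x * (q : G)⁻¹) * (q : G)⁻¹⁻¹ := by rw [h1]
        _ = x := by group
    rwa [h3] at this)
  exact hS.kill hjZ huK.1 C.memX C.line C.memF huK.2.2.2.1 C.ef C.fx hux hbad hju0 hje.symm hjf.symm
    hjx.symm hjb.symm

/-- A pair with no common neighbour cannot occur without central involutions. -/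
theorem false_of_bad (hS : Step D) (hone : OneClass D) (hl : ∃ a b, Line D a b)
    (hconn : IsConnectedSet (CommAdj D) D) {d x : G} (hd : d ∈ D) (hx : x ∈ D)
    (hdx : ¬ Commute d x) (hbad : ¬ Common D d x) : False := by
  obtain ⟨a, e, f, x', ha, he, hf, hx', hae, hef, hfx, hax, hbad'⟩ := exists_path hconn hd hx hdx hbad
  obtain ⟨e₁, e₂, w, w', i, i', C⟩ := exists_config hS hone hl ha he hf hx' hae hef hfx hax hbad'
  exact C.absurd_config hS

/-- A central involution can be factored out. -/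
theorem common_of_central (hD : IsOddTranspositionSet D) (hone : OneClass D)
    (hl : ∃ a b, Line D a b) (hconn : IsConnectedSet (CommAdj D) D) (hb : Below.{u} (Nat.card G))
    {z : G} (hz : orderOf z = 2) (hzc : z ∈ Subgroup.center G) {d x : G} (hd : d ∈ D) (hx : x ∈ D)
    (hdx : ¬ Commute d x) : Common D d x := by
  have hcomm : ∀ g, Commute g z := fun g => Subgroup.mem_center_iff.mp hzc g
  have hN : ∀ g ∈ Subgroup.zpowers z, g * g = 1 := by
    rintro g ⟨n, rfl⟩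
    show z ^ n * z ^ n = 1
    rw [← (Commute.refl z).mul_zpow, StronglyEmbedded.mul_self_eq_one hz, one_zpow]
  haveI : (Subgroup.zpowers z).Normal := ⟨fun g hg k => by
    obtain ⟨n, rfl⟩ := hg
    show k * z ^ n * k⁻¹ ∈ _
    rw [((hcomm k).zpow_right n).eq, mul_inv_cancel_right]
    exact Subgroup.zpow_mem_zpowers z n⟩
  set π := QuotientGroup.mk' (Subgroup.zpowers z)
  have hDz : ∀ a ∈ D, a ≠ z := fun a ha h => by
    subst h
    obtain ⟨g, hg⟩ := hone a ha d hd
    obtain ⟨g', hg'⟩ := hone a ha x hx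
    rw [((hcomm g)).eq, mul_inv_cancel_right] at hg
    rw [((hcomm g')).eq, mul_inv_cancel_right] at hg'
    exact hdx (hg.trans hg'.symm ▸ Commute.refl _)
  have hrefl : ∀ a ∈ D, ∀ c ∈ D, Commute (π a) (π c) → Commute a c := by
    intro a ha c hc h
    by_contra hn
    have h2 : π ((a * c) * (a * c)) = 1 := by
      rw [map_mul, map_mul, show π a * π c * (π a * π c) = π a * (π c * π a) * π c by group, ← h.eq,
        show π a * (π a * π c) * π c = π a * π a * (π c * π c) by group, ← map_mul, ← map_mul π c c,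
        mul_self hD.1 ha, mul_self hD.1 hc, map_one, one_mul]
    have h4 : (a * c) ^ 4 = 1 := by
      rw [show 4 = 2 + 2 from rfl, pow_add, pow_two]
      exact hN _ ((QuotientGroup.eq_one_iff _).mp h2)
    exact hn (eq_of_odd_of_pow_four hD.1 hc (odd_of_not_commute hD ha hc hn) h4 ▸ Commute.refl _)
  have h1 : ∀ a ∈ D, π a ≠ 1 := fun a ha h => by
    have hm := (QuotientGroup.eq_one_iff a).mp h
    obtain ⟨n, hn⟩ := hm
    rcases Int.even_or_odd n with hev | hod
    · obtain ⟨k, rfl⟩ := hev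
      exact ne_one hD.1 ha (by
        rw [← hn]; show z ^ (k + k) = 1
        rw [zpow_add, ← (Commute.refl z).mul_zpow, StronglyEmbedded.mul_self_eq_one hz, one_zpow])
    · obtain ⟨k, rfl⟩ := hod
      exact hDz a ha (by
        rw [← hn]; show z ^ (2 * k + 1) = z
        rw [zpow_add, zpow_mul, zpow_two, StronglyEmbedded.mul_self_eq_one hz, one_zpow, one_mul,
          zpow_one])
  have hpair : ∀ a ∈ D, ∀ c ∈ D, Commute (π a) (π c) ∨ Odd (orderOf (π a * π c)) := fun a ha c hc =>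
    (odd_or_commute hD ha hc).imp (fun h => h.map π) fun h => by
      rw [← map_mul]; exact h.of_dvd_nat (orderOf_map_dvd _ _)
  have hE : IsOddTranspositionSet (π '' D) := by
    refine ⟨⟨?_, ?_, ?_, ?_⟩, ?_⟩
    · rintro _ ⟨a, ha, rfl⟩
      exact orderOf_eq_prime (by rw [← map_pow, pow_two, mul_self hD.1 ha, map_one]) (h1 a ha)
    · rw [← MonoidHom.map_closure, hD.1.generates,
        Subgroup.map_top_of_surjective _ (QuotientGroup.mk'_surjective _)]
    · rintro _ ⟨a, ha, rfl⟩ g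
      obtain ⟨g, rfl⟩ := QuotientGroup.mk'_surjective _ g
      exact ⟨g * a * g⁻¹, hD.1.conj_mem a ha g, by rw [map_mul, map_mul, map_inv]⟩
    · rintro _ ⟨a, ha, rfl⟩ _ ⟨c, hc, rfl⟩
      exact (hpair a ha c hc).imp (fun h => h.eq) Or.inl
    · rintro _ ⟨a, ha, rfl⟩ _ ⟨c, hc, rfl⟩ h4
      rcases hpair a ha c hc with h | h
      · have h2 : (π a * π c) ^ 2 = 1 := by
          rw [h.mul_pow, ← map_pow, ← map_pow, pow_two, pow_two, mul_self hD.1 ha, mul_self hD.1 hc,
            map_one, one_mul]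
        exact Nat.not_le.mpr (by norm_num) (h4 ▸ Nat.le_of_dvd two_pos (orderOf_dvd_of_pow_eq_one h2))
      · rw [h4] at h
        exact absurd h (by decide)
  obtain ⟨a, c, hac⟩ := hl
  have honeE : OneClass (π '' D) := by
    rintro _ ⟨p, hp, rfl⟩ _ ⟨q, hq, rfl⟩
    obtain ⟨g, rfl⟩ := hone p hp q hq
    exact ⟨π g, by rw [map_mul, map_mul, map_inv]⟩
  have hconnE : IsConnectedSet (CommAdj (π '' D)) (π '' D) := by
    rintro _ ⟨p, hp, rfl⟩ _ ⟨q, hq, rfl⟩
    have hpath := hconn p hp q hq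
    clear hq
    induction hpath with
    | refl => exact Relation.ReflTransGen.refl
    | @tail r t _ hrt ih =>
      exact ih.trans (creach_of_commute ⟨r, hrt.1, rfl⟩ ⟨t, hrt.2.1, rfl⟩
        ((show Commute r t from hrt.2.2.2).map π))
  have hlt : Nat.card (G ⧸ Subgroup.zpowers z) < Nat.card G := by
    rw [Subgroup.card_eq_card_quotient_mul_card_subgroup (Subgroup.zpowers z), Nat.card_zpowers, hz]
    have := Nat.card_pos (α := G ⧸ Subgroup.zpowers z)
    omega
  obtain ⟨_, ⟨k, hk, rfl⟩, hk1, hk2⟩ := hb _ hlt _ hE honeE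
    ⟨π a, π c, ⟨a, hac.1, rfl⟩, ⟨c, hac.2.1, rfl⟩, ⟨a * c, hac.2.2, map_mul π a c⟩⟩ hconnE
    (π d) ⟨d, hd, rfl⟩ (π x) ⟨x, hx, rfl⟩ (fun h => hdx (hrefl d hd x hx h))
  exact ⟨k, hk, hrefl k hk d hd hk1, hrefl k hk x hx hk2⟩

/-- The statement below every order. -/
theorem below (hc : RankOneBN.Criterion.{u}) : ∀ n, Below.{u} n := by
  intro n
  induction n with
  | zero => exact fun _ _ _ h => absurd h (Nat.not_lt_zero _)
  | succ n ih =>
    intro K _ _ hK E hE hone hl hconn d hd x hx hdx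
    have hb : Below.{u} (Nat.card K) := fun K' _ _ h =>
      ih K' (lt_of_lt_of_le h (Nat.lt_succ_iff.mp hK))
    by_cases hz : ∃ z : K, orderOf z = 2 ∧ z ∈ Subgroup.center K
    · obtain ⟨z, hz2, hzc⟩ := hz
      exact common_of_central hE hone hl hconn hb hz2 hzc hd hx hdx
    · by_contra hbad
      exact false_of_bad ⟨hE, hc, hb, fun z hz2 hzc => hz ⟨z, hz2, hzc⟩⟩ hone hl hconn hd hx hdx hbad

/-- The shape of S5050. -/
theorem exists_common_of_criterion (hc : RankOneBN.Criterion.{u}) (hD : IsOddTranspositionSet D)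
    (hcl : IsRootInvolutionClass D) (hconn : IsConnectedSet (CommAdj D) D)
    (hDD : (D ∩ commutingProducts D).Nonempty) {d x : G} (hd : d ∈ D) (hx : x ∈ oddPartners D d) :
    ∃ e ∈ D, e * d = d * e ∧ e * x = x * e := by
  obtain ⟨p, hp, a, ha, b, hb, -, -, rfl⟩ := hDD
  obtain ⟨c, hc', h1, h2⟩ := below hc (Nat.card G + 1) G (Nat.lt_succ_self _) D hD hcl.2.2
    ⟨a, b, ha, hb, hp⟩ hconn d hd x hx.1 (not_commute_of_odd hD.1 hd hx.1 hx.2.1.symm hx.2.2)
  exact ⟨c, hc', h1.eq, h2.eq⟩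

end CfsgLib.RootInv.OddCommon
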