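import Cfsg.Agent.RootInvolutions.TwinsClosed99
import Cfsg.Agent.RootInvolutions.Disconnected.Points
import Cfsg.Agent.OddOrder.Basic

/-!
Odd transpositions: the midpoint of an odd pair, the member attached to a commuting pair and a
member odd to both, and at most one bad member on a line.
-/

set_option autoImplicit false

namespace CfsgLib.RootInv.OddCommon

open Cfsg CfsgLib.RootInv CfsgLib.RootInv99

variable {G : Type*} [Group G] {D : Set G}

/-- A member commuting with both members of a pair. -/
def Common (D : Set G) (d x : G) : Prop := ∃ c ∈ D, Commute c d ∧ Commute c x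

theorem Common.conj (hD : IsRootInvolutionSet D) {d x : G} (h : Common D d x) (g : G) :
    Common D (g * d * g⁻¹) (g * x * g⁻¹) := by
  obtain ⟨c, hc, h1, h2⟩ := h
  exact ⟨g * c * g⁻¹, hD.conj_mem c hc g, (Commute.conj_iff g).mpr h1, (Commute.conj_iff g).mpr h2⟩

/-- The middle of an odd pair. -/
noncomputable def mid (a b : G) : G := (a * b) ^ ((orderOf (a * b) - 1) / 2) * a

theorem mid_conj (g a b : G) :
    g * mid a b * g⁻¹ = mid (g * a * g⁻¹) (g * b * g⁻¹) := by
  have h : g * a * g⁻¹ * (g * b * g⁻¹) = g * (a * b) * g⁻¹ := by group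
  have ho : orderOf (g * (a * b) * g⁻¹) = orderOf (a * b) :=
    orderOf_injective (MulAut.conj g).toMonoidHom (MulAut.conj g).injective _
  unfold mid
  rw [h, ho, conj_pow]
  group

theorem mid_mem_of_mem {a b : G} {K : Subgroup G} (ha : a ∈ K) (hb : b ∈ K) : mid a b ∈ K :=
  mul_mem (pow_mem (mul_mem ha hb) _) ha

/-- Two elements of the same odd order in a coset of a normalised subgroup of coprime order are
conjugate under the subgroup. -/
theorem exists_conj_of_coset [Finite G] (N : Subgroup G) {a b : G}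
    (ha : a ∈ Subgroup.normalizer (N : Set G)) (hcop : (orderOf a).Coprime (Nat.card N))
    (hb : b ^ orderOf a = 1) (hab : b * a⁻¹ ∈ N) : ∃ q ∈ N, q * b * q⁻¹ = a := by
  obtain ⟨q, hq, c, hc, hca, he⟩ :=
    OddOrder.exists_conj_into_centralizing_coset N a ha hcop (b * a⁻¹) hab
  rw [inv_mul_cancel_right] at he
  refine ⟨q, hq, ?_⟩
  have h1 : (c * a) ^ orderOf a = 1 := by rw [← he, conj_pow, hb]; group
  rw [(show Commute c a from hca).mul_pow, pow_orderOf_eq_one, mul_one] at h1
  have h2 : orderOf c ∣ Nat.card N := Subgroup.orderOf_dvd_natCard N hc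
  have h3 : orderOf c = 1 :=
    Nat.eq_one_of_dvd_coprimes hcop (orderOf_dvd_of_pow_eq_one h1) h2
  rw [he, orderOf_eq_one_iff.mp h3, one_mul]

section OT

variable (hD : IsOddTranspositionSet D) {a b c d e e' x y : G}

include hD

theorem odd_of_not_commute (ha : a ∈ D) (hb : b ∈ D) (h : ¬ Commute a b) :
    Odd (orderOf (a * b)) :=
  (odd_or_commute hD ha hb).resolve_left h

theorem pow_two_mul_half (ha : a ∈ D) (hb : b ∈ D) (h : ¬ Commute a b) :
    (a * b) ^ (2 * ((orderOf (a * b) - 1) / 2) + 1) = 1 := by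
  obtain ⟨m, hm⟩ := odd_of_not_commute hD ha hb h
  rw [show (orderOf (a * b) - 1) / 2 = m by omega, ← hm, pow_orderOf_eq_one]

theorem mid_mem (ha : a ∈ D) (hb : b ∈ D) (h : ¬ Commute a b) : mid a b ∈ D := by
  have key : ∀ j : ℕ, (a * b) ^ j * a ∈ D := by
    intro j
    induction j using Nat.twoStepInduction with
    | zero => simpa using ha
    | one =>
      have := hD.1.conj_mem b hb a
      rw [inv_self hD.1 ha] at this
      simpa using this
    | more j h1 _ =>
      have h2 := hD.1.conj_mem _ h1 (a * b)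
      have e : a * b * ((a * b) ^ j * a) * (a * b)⁻¹ = (a * b) ^ (j + 2) * a := by
        rw [mul_inv_rev, inv_self hD.1 ha, inv_self hD.1 hb, pow_succ, pow_succ']
        simp only [mul_assoc]
      rwa [e] at h2
  exact key _

theorem mid_spec (ha : a ∈ D) (hb : b ∈ D) (h : ¬ Commute a b) :
    mid a b * a * mid a b = b := by
  have hk := pow_two_mul_half hD ha hb h
  rw [pow_succ, two_mul, pow_add, ← mul_assoc] at hk
  have e1 := eq_inv_of_mul_eq_one_left hk
  rw [inv_self hD.1 hb] at e1
  unfold mid
  generalize (a * b) ^ ((orderOf (a * b) - 1) / 2) = p at e1 ⊢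
  calc p * a * a * (p * a) = p * (a * a) * p * a := by simp only [mul_assoc]
    _ = p * p * a := by rw [mul_self hD.1 ha, mul_one]
    _ = b := e1

theorem mid_spec' (ha : a ∈ D) (hb : b ∈ D) (h : ¬ Commute a b) :
    mid a b * b * mid a b = a := by
  have hm := mid_mem hD ha hb h
  conv_lhs => enter [1, 2]; rw [← mid_spec hD ha hb h]
  exact flip hD.1 hm a

theorem mid_not_commute (ha : a ∈ D) (hb : b ∈ D) (h : ¬ Commute a b) : ¬ Commute (mid a b) a := by
  intro hc
  have := mid_spec hD ha hb h
  rw [hc.eq, mul_assoc, mul_self hD.1 (mid_mem hD ha hb h), mul_one] at this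
  exact h (this ▸ Commute.refl a)

/-- An element exchanging the pair centralises its middle. -/
theorem commute_mid_of_swap [Finite G] (ha : a ∈ D) (hb : b ∈ D) (h : ¬ Commute a b) {g : G}
    (hga : g * a * g⁻¹ = b) (hgb : g * b * g⁻¹ = a) : Commute g (mid a b) := by
  have hb' := mid_mem hD hb ha (fun h' => h h'.symm)
  have hm := mid_mem hD ha hb h
  have e : mid b a = mid a b := by
    refine RootPoints.eq_of_conj_eq (f := a) ?_ ?_ ?_
    · exact odd_of_not_commute hD ha hb' fun hc => by
        have h2 := mid_spec' hD hb ha (fun h' => h h'.symm)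
        rw [← hc.eq, mul_assoc, mul_self hD.1 hb', mul_one] at h2
        exact h (h2 ▸ Commute.refl a)
    · exact odd_of_not_commute hD ha hm fun hc => mid_not_commute hD ha hb h hc.symm
    · rw [mid_spec' hD hb ha (fun h' => h h'.symm), mid_spec hD ha hb h]
  have h1 := mid_conj g a b
  rw [hga, hgb, e] at h1
  exact mul_inv_eq_iff_eq_mul.mp h1

/-- At most one of two members of a line is bad for a member odd to both. -/
theorem not_both_bad [Finite G] (hd : d ∈ D) (hx : x ∈ D) (hl : Line D e e') (hde : Commute d e)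
    (hde' : Commute d e') (hxe : ¬ Commute x e) :
    ¬ (Commute (d * e * x * (d * e)⁻¹) x ∧ Commute (d * e' * x * (d * e')⁻¹) x) := by
  rintro ⟨h1, h2⟩
  have he := hl.1
  have he' := hl.2.1
  have hee := Line.commute hD.1 hl
  set x1 := d * e * x * (d * e)⁻¹ with hx1
  set x2 := d * e' * x * (d * e')⁻¹ with hx2
  set f := e * e' with hf
  have hfD : f ∈ D := hl.2.2
  have hxf : ¬ Commute x f := fun h => hxe (commute_of_line hD
    (Line.symm hD.1 (Line.third hD.1 hl)) hx h)
  have hfd : Commute f (d * e) := (hde.symm.mul_left hde'.symm).mul_right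
    ((Commute.refl e).mul_left hee.symm)
  have hx1D : x1 ∈ D := hD.1.conj_mem x hx _
  have hxf' : f * x * f⁻¹ ∈ D := hD.1.conj_mem x hx f
  have e2 : x2 = f * x1 * f⁻¹ := by
    have : d * e' = f * (d * e) := by
      rw [hfd.eq, hf, ← mul_assoc, mul_assoc d e e, mul_self hD.1 he, mul_one]
    rw [hx2, hx1, this]
    group
  have hne : ¬ Commute x1 f := fun hc => hxf (by
    have h' := (Commute.conj_iff (d * e)⁻¹).mpr hc
    rwa [hx1, inv_inv, show (d * e)⁻¹ * (d * e * x * (d * e)⁻¹) * (d * e) = x by group,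
      show (d * e)⁻¹ * f * (d * e) = f by rw [mul_assoc, hfd.eq, inv_mul_cancel_left]] at h')
  have hxx : ¬ Commute x (f * x * f⁻¹) := by
    rw [inv_self hD.1 hfD, commute_conj_iff_pow_four hD.1 hfD hx]
    intro h4
    have ho := odd_of_not_commute hD hfD hx fun h => hxf h.symm
    exact hxf (eq_of_odd_of_pow_four hD.1 hx ho h4 ▸ Commute.refl _)
  have h3 : Commute x1 (f * x * f⁻¹) := by
    rw [e2] at h2
    have := (Commute.conj_iff f).mpr h2
    rw [show f * (f * x1 * f⁻¹) * f⁻¹ = f * f * x1 * (f * f)⁻¹ by group, mul_self hD.1 hfD,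
      one_mul, inv_one, mul_one] at this
    exact this
  have hswap : Commute f (mid x (f * x * f⁻¹)) := commute_mid_of_swap hD hx hxf' hxx rfl (by
    rw [show f * (f * x * f⁻¹) * f⁻¹ = f * f * x * (f * f)⁻¹ by group, mul_self hD.1 hfD, one_mul,
      inv_one, mul_one])
  have hm := mid_mem hD hx hxf' hxx
  have heq : f = mid x (f * x * f⁻¹) := by
    refine RootPoints.eq_of_conj_eq (f := x) (odd_of_not_commute hD hx hfD hxf)
      (odd_of_not_commute hD hx hm fun hc => mid_not_commute hD hx hxf' hxx hc.symm) ?_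
    rw [mid_spec hD hx hxf' hxx, inv_self hD.1 hfD]
  refine hne ?_
  rw [heq]
  exact ((h1.mul_right h3).pow_right _).mul_right h1

/-- The involution and the member attached to a commuting pair and a member odd to both. -/
theorem exists_third [Finite G] (hd : d ∈ D) (he : e ∈ D) (hx : x ∈ D) (hde : Commute d e)
    (hne : d ≠ e) (hnD : d * e ∉ D) (hgood : ¬ Commute (d * e * x * (d * e)⁻¹) x) :
    ∃ w ∈ D, ∃ i : G, orderOf i = 2 ∧ i = d * e * w ∧ Commute w d ∧ Commute w e ∧ Commute i x ∧
      Commute i d ∧ Commute i e ∧ ∀ g, Commute g x → Commute g (d * e) → Commute g w := by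
  have hv2 : d * e * (d * e) = 1 := by
    rw [show d * e * (d * e) = d * (e * d) * e by group, ← hde.eq,
      show d * (d * e) * e = d * d * (e * e) by group, mul_self hD.1 hd, mul_self hD.1 he, one_mul]
  have hvd : Commute (d * e) d := (Commute.refl d).mul_left hde.symm
  have hve : Commute (d * e) e := hde.mul_left (Commute.refl e)
  set v := d * e with hv
  clear_value v
  have hvi : v⁻¹ = v := inv_eq_of_mul_eq_one_right hv2
  rw [hvi] at hgood
  have hy : v * x * v ∈ D := by
    have := hD.1.conj_mem x hx v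
    rwa [hvi] at this
  obtain ⟨k, hk⟩ := odd_of_not_commute hD hx hy fun h => hgood h.symm
  set n := orderOf (x * (v * x * v)) with hn
  set i := (x * v) ^ n with hi
  have hsq : (x * v) ^ 2 = x * (v * x * v) := by rw [pow_two]; simp only [mul_assoc]
  have hi2 : i * i = 1 := by
    rw [hi, ← pow_add, ← two_mul, pow_mul, hsq, hn, pow_orderOf_eq_one]
  have hinv : i⁻¹ = i := inv_eq_of_mul_eq_one_right hi2
  have hxinv : x⁻¹ = x := inv_self hD.1 hx
  have hrev : (v * x) ^ n = i := by
    rw [← hinv, hi, ← inv_pow, mul_inv_rev, hxinv, hvi]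
  have hix : Commute i x := by
    show i * x = x * i
    have : x * (v * x) ^ n = (x * v) ^ n * x :=
      (SemiconjBy.pow_right (show SemiconjBy x (v * x) (x * v) from by
        show x * (v * x) = x * v * x; rw [mul_assoc]) n)
    rw [hrev, ← hi] at this
    exact this.symm
  have hiv : Commute i v := by
    show i * v = v * i
    have : v * (x * v) ^ n = (v * x) ^ n * v :=
      (SemiconjBy.pow_right (show SemiconjBy v (x * v) (v * x) from by
        show v * (x * v) = v * x * v; rw [mul_assoc]) n)
    rw [hrev, ← hi] at this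
    exact this.symm
  have hw : v * i ∈ D := by
    have h1 := hD.1.conj_mem _ hx ((v * x) ^ k * v)
    have e1 : v * i = (v * x) ^ k * v * x * ((v * x) ^ k * v)⁻¹ := by
      rw [mul_inv_rev, ← inv_pow, mul_inv_rev, hxinv, hvi]
      have hP : v * (x * v) ^ k = (v * x) ^ k * v :=
        (SemiconjBy.pow_right (show SemiconjBy v (x * v) (v * x) from by
          show v * (x * v) = v * x * v; rw [mul_assoc]) k)
      rw [hi, hk, show 2 * k + 1 = k + (1 + k) by omega, pow_add, pow_add, pow_one, ← mul_assoc,
        hP]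
      simp only [mul_assoc]
      rw [hP]
    rwa [← e1] at h1
  have hwv : Commute (v * i) v := (Commute.refl v).mul_left hiv
  have hwd : Commute (v * i) d := commute_left_of_commute_mul hD hw hd he hde hne (hv ▸ hwv)
  have hwe : Commute (v * i) e := commute_right_of_commute_mul hD hw hd he hde hne (hv ▸ hwv)
  have hi1 : i ≠ 1 := fun h => hnD (by rw [h, mul_one] at hw; exact hv ▸ hw)
  have hiw : i = v * (v * i) := by rw [← mul_assoc, hv2, one_mul]
  refine ⟨v * i, hw, i, CfsgLib.StronglyEmbedded.orderOf_two_iff.mpr ⟨hi2, hi1⟩, ?_, hwd, hwe, hix, ?_, ?_,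
    fun g hgx hgv => hgv.mul_right ((hgx.mul_right hgv).pow_right n)⟩
  · exact hiw
  · rw [hiw]; exact hvd.mul_left hwd
  · rw [hiw]; exact hve.mul_left hwe

end OT

end CfsgLib.RootInv.OddCommon
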