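import Cfsg.Agent.RootInvolutions.OddCommon.Kill52
import Cfsg.Agent.RootInvolutions.OddCommon.Rigid52

/-!
The clique common to the components, and the automorphisms induced on it by the products of `f`
with its conjugates: one of them fixes every fibre.
-/

set_option autoImplicit false

universe u

namespace CfsgLib.RootInv.OddCommon

open Cfsg CfsgLib.RootInv CfsgLib.RootInv99

variable {G : Type u} [Group G] [Finite G] {D : Set G}

omit [Finite G] in
theorem coe_mid {H : Subgroup G} (a b : H) : ((mid a b : H) : G) = mid (a : G) (b : G) := by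
  unfold mid
  rw [Subgroup.coe_mul, SubmonoidClass.coe_pow, Subgroup.coe_mul, ← Subgroup.orderOf_coe,
    Subgroup.coe_mul]

namespace Config

variable {d e b f x w w' i i' : G} (C : Config D d e b f x w w' i i') {y : G}
include C

/-- The members commuting with the five and not with `x`. -/
def clique (C : Config D d e b f x w w' i i') : Set G :=
  have := C
  {u | u ∈ D ∧ ¬ Commute u x ∧ Commute u d ∧ Commute u e ∧ Commute u b ∧ Commute u w ∧ Commute u w'}

/-- The abelian group generated by the clique. -/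
abbrev cliqueGroup (C : Config D d e b f x w w' i i') : Subgroup G := Subgroup.closure C.clique

/-- The product of `f` with its conjugate. -/
abbrev mover (C : Config D d e b f x w w' i i') (y : G) : G :=
  have := C
  f * (y * f * y⁻¹)

omit [Finite G] in
theorem apart (hD : IsOddTranspositionSet D) :
    ¬ Commute e x ∧ ¬ Commute b x ∧ ¬ Commute w x ∧ ¬ Commute w' x :=
  ⟨fun h => C.bad ⟨e, C.line.1, C.de.symm, h⟩,
    fun h => C.bad ⟨b, C.line.2.1, (commute_of_line hD C.line C.memD C.de).symm, h⟩,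
    fun h => C.bad ⟨w, C.memW, C.wd, h⟩, fun h => C.bad ⟨w', C.memW', C.wd', h⟩⟩

omit [Finite G] in
theorem cen_commute_clique {u : G} (hy : C.Cen y) (hyi : y = i ∨ y = i' ∨ y = i * i')
    (hu : u ∈ C.clique) : Commute u y := by
  obtain ⟨-, -, hd, he, hb, hw, hw'⟩ := hu
  have h1 : Commute u i := by rw [C.eq]; exact (hd.mul_right he).mul_right hw
  have h2 : Commute u i' := by rw [C.eq']; exact (hd.mul_right hb).mul_right hw'
  rcases hyi with rfl | rfl | rfl
  exacts [h1, h2, h1.mul_right h2]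

theorem disc (hS : Step D) (hy : C.Cen y) : Disc (compSet D y x) := by
  have hxc : x ∈ comp D y x := self_mem_comp C.memX hy.2.2.1.symm
  exact disc_comp hS.ot hS.crit hS.below (C.noncentral hS hy) C.memX hy.2.2.1.symm C.line
    hy.2.2.2.2.1.symm hy.2.2.2.2.2.1.symm (C.apart hS.ot).1
    (mem_comp_of_not_commute hS.ot hxc C.memD hy.2.2.2.1.symm C.dx) hxc C.dx C.bad

omit [Finite G] in
theorem clique_subset_comp (hD : IsOddTranspositionSet D) (hy : C.Cen y)
    (hyi : y = i ∨ y = i' ∨ y = i * i') {u : G} (hu : u ∈ C.clique) : u ∈ comp D y x :=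
  mem_comp_of_not_commute hD (self_mem_comp C.memX hy.2.2.1.symm) hu.1
    (C.cen_commute_clique hy hyi hu) hu.2.1

theorem mem_clique_of (hS : Step D) (hy : C.Cen y) {u : G} (hu : u ∈ comp D y x)
    (hue : Commute u e) : u ∈ C.clique := by
  have hD := hS.ot
  obtain ⟨hdb, heb, -, -, hwe', -, -, -, -⟩ := C.facts hD
  obtain ⟨hex, hbx, hwx, hwx'⟩ := C.apart hD
  obtain ⟨-, -, hyx, hyd, hye, hyb, hyw, hyw'⟩ := _root_.id hy
  have hxc : x ∈ comp D y x := self_mem_comp C.memX hyx.symm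
  have hdc := mem_comp_of_not_commute hD hxc C.memD hyd.symm C.dx
  have hec := mem_comp_of_not_commute hD hxc C.line.1 hye.symm hex
  have htr : ∀ a ∈ comp D y x, Commute a e → Commute u a := fun a ha hae =>
    hS.trans (C.noncentral hS hy) C.memX hyx.symm C.line hye.symm hyb.symm hex hdc hxc C.dx C.bad
      hu ha hec (fun h => hex h.symm) hue hae
  refine ⟨hu.1.1, fun hux => hex ?_, htr d hdc C.de, hue,
    htr b (mem_comp_of_not_commute hD hxc C.line.2.1 hyb.symm hbx) heb.symm,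
    htr w (mem_comp_of_not_commute hD hxc C.memW hyw.symm hwx) C.we,
    htr w' (mem_comp_of_not_commute hD hxc C.memW' hyw'.symm hwx') hwe'⟩
  -- `u` commuting with `x` and `e` would join `x` and `e`
  have hdisc := C.disc hS hy
  obtain ⟨F⟩ := hdisc.nonempty_frame (e := ⟨e, Subgroup.subset_closure hec⟩)
    (x := ⟨x, Subgroup.subset_closure hxc⟩) hec hxc
    (fun h => hex (congrArg Subtype.val h.eq : x * e = e * x).symm)
  exact absurd (Subtype.ext hux.symm.eq) (F.apart_of (u := ⟨u, Subgroup.subset_closure hu⟩) hu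
    (Subtype.ext hue.eq))

omit [Finite G] in
theorem cliqueGroup_le (hD : IsOddTranspositionSet D) (hy : C.Cen y)
    (hyi : y = i ∨ y = i' ∨ y = i * i') : C.cliqueGroup ≤ compGroup D y x :=
  Subgroup.closure_mono fun _ hu => C.clique_subset_comp hD hy hyi hu

omit [Finite G] in
theorem lift_mem (hD : IsOddTranspositionSet D) (hy : C.Cen y)
    (hyi : y = i ∨ y = i' ∨ y = i * i') {e' : compGroup D y x} (he' : (e' : G) = e) {a : G}
    (ha : a ∈ C.cliqueGroup) :
    (⟨a, C.cliqueGroup_le hD hy hyi ha⟩ : compGroup D y x) ∈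
      Subgroup.closure {v | v ∈ compSet D y x ∧ Commute v e'} := by
  have h : C.cliqueGroup ≤ (Subgroup.closure {v : compGroup D y x |
      v ∈ compSet D y x ∧ Commute v e'}).map (compGroup D y x).subtype := by
    rw [Subgroup.closure_le]
    intro u hu
    exact ⟨⟨u, Subgroup.subset_closure (C.clique_subset_comp hD hy hyi hu)⟩,
      Subgroup.subset_closure ⟨C.clique_subset_comp hD hy hyi hu,
        Subtype.ext (by simp only [Subgroup.coe_mul, he']; exact hu.2.2.2.1.eq)⟩, rfl⟩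
  obtain ⟨z, hz, hza⟩ := h ha
  rwa [show (⟨a, C.cliqueGroup_le hD hy hyi ha⟩ : compGroup D y x) = z from Subtype.ext hza.symm]

theorem mover_spec (hS : Step D) (hy : C.Cen y) :
    orderOf (C.mover y) = 2 ∧ C.mover y ∉ Subgroup.center G ∧ Commute (C.mover y) y ∧
      Commute (C.mover y) x ∧ Commute (C.mover y) e ∧ Commute (C.mover y) b ∧
      Commute (C.mover y) f := by
  have hD := hS.ot
  obtain ⟨hf', hc, hne⟩ := C.move hS hy
  obtain ⟨hy2, -, hyx, -, hye, hyb, -, -⟩ := _root_.id hy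
  have hfb := (C.facts hD).2.2.1
  have h2 : C.mover y * C.mover y = 1 := by
    rw [← pow_two]; exact (commute_iff hD.1 C.memF hf').mp hc
  refine ⟨StronglyEmbedded.orderOf_two_iff.mpr ⟨h2, fun h => hne ?_⟩, fun hcen => ?_, ?_,
    C.fx.mul_left ((hyx.mul_left C.fx).mul_left hyx.inv_left),
    C.ef.symm.mul_left ((hye.mul_left C.ef.symm).mul_left hye.inv_left),
    hfb.mul_left ((hyb.mul_left hfb).mul_left hyb.inv_left),
    (Commute.refl f).mul_left hc.symm⟩
  · exact ((eq_inv_of_mul_eq_one_left h).trans (inv_self hD.1 hf')).symm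
  · exact C.bad ⟨f, C.memF, (commute_left_of_commute_mul hD C.memD C.memF hf' hc hne.symm
      (Subgroup.mem_center_iff.mp hcen d)).symm, C.fx⟩
  · have hconj : y * C.mover y * y⁻¹ = C.mover y := by
      show y * (f * (y * f * y⁻¹)) * y⁻¹ = f * (y * f * y⁻¹)
      conv_rhs => rw [hc.eq]
      rw [show y * (f * (y * f * y⁻¹)) * y⁻¹ = y * f * y⁻¹ * (y * y * f * (y * y)⁻¹) by group, hy2,
        one_mul, inv_one, mul_one]
    exact (mul_inv_eq_iff_eq_mul.mp hconj).symm

theorem mover_clique (hS : Step D) (hy : C.Cen y) (hyi : y = i ∨ y = i' ∨ y = i * i') {u : G}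
    (hu : u ∈ C.clique) : C.mover y * u * (C.mover y)⁻¹ ∈ C.clique := by
  obtain ⟨-, -, hjy, hjx, hje, -, -⟩ := C.mover_spec hS hy
  exact C.mem_clique_of hS hy (conj_mem_comp hS.ot hjy hjx (C.clique_subset_comp hS.ot hy hyi hu))
    ((hje.mul_left hu.2.2.2.1).mul_left hje.inv_left)

theorem mover_group (hS : Step D) (hy : C.Cen y) (hyi : y = i ∨ y = i' ∨ y = i * i') {a : G}
    (ha : a ∈ C.cliqueGroup) : C.mover y * a * (C.mover y)⁻¹ ∈ C.cliqueGroup := by
  have h : C.cliqueGroup ≤ C.cliqueGroup.comap (MulAut.conj (C.mover y)).toMonoidHom := by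
    rw [Subgroup.closure_le]
    exact fun u hu => Subgroup.subset_closure (C.mover_clique hS hy hyi hu)
  exact h ha

omit [Finite G] in
theorem commute_group (hy : C.Cen y) (hyi : y = i ∨ y = i' ∨ y = i * i') {a : G}
    (ha : a ∈ C.cliqueGroup) : Commute a y := by
  have h : C.cliqueGroup ≤ Subgroup.centralizer {y} := by
    rw [Subgroup.closure_le]
    exact fun u hu => Subgroup.mem_centralizer_singleton_iff.mpr (C.cen_commute_clique hy hyi hu).eq
  exact Subgroup.mem_centralizer_singleton_iff.mp (h ha)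

theorem movers_mul (hS : Step D) :
    C.mover i * C.mover i' = i * C.mover (i * i') * i⁻¹ := by
  obtain ⟨hf', hc, -⟩ := C.move hS (C.cen_all hS).1
  have e1 : i * (i * i' * f * (i * i')⁻¹) * i⁻¹ = i' * f * i'⁻¹ := by
    rw [show i * (i * i' * f * (i * i')⁻¹) * i⁻¹ = i * i * (i' * f * i'⁻¹) * (i * i)⁻¹ by group,
      C.inv_i, one_mul, inv_one, mul_one]
  show f * (i * f * i⁻¹) * (f * (i' * f * i'⁻¹)) = i * (f * (i * i' * f * (i * i')⁻¹)) * i⁻¹
  rw [show i * (f * (i * i' * f * (i * i')⁻¹)) * i⁻¹ =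
      i * f * i⁻¹ * (i * (i * i' * f * (i * i')⁻¹) * i⁻¹) by group, e1, hc.eq,
    mul_assoc (i * f * i⁻¹) f, ← mul_assoc f f, mul_self hS.ot.1 C.memF, one_mul]

/-- One of the three products of `f` with a conjugate fixes every fibre of the clique. -/
theorem exists_fixing (hS : Step D) : ∃ y, C.Cen y ∧ (y = i ∨ y = i' ∨ y = i * i') ∧
    Commute (d⁻¹ * (C.mover y * d * (C.mover y)⁻¹) * x *
      (d⁻¹ * (C.mover y * d * (C.mover y)⁻¹))⁻¹) x := by
  classical
  have hD := hS.ot
  obtain ⟨hi, hi', hii⟩ := C.cen_all hS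
  obtain ⟨hex, -, -, -⟩ := C.apart hD
  obtain ⟨hdb, heb, -, -, -, -, -, -, -⟩ := C.facts hD
  have hdK : d ∈ C.clique := ⟨C.memD, C.dx, Commute.refl d, C.de, hdb, C.wd.symm, C.wd'.symm⟩
  have hxc : x ∈ comp D i x := self_mem_comp C.memX C.ix.symm
  have hec := mem_comp_of_not_commute hD hxc C.line.1 C.ie.symm hex
  set X := compGroup D i x
  let x₀ : X := ⟨x, Subgroup.subset_closure hxc⟩
  let e₀ : X := ⟨e, Subgroup.subset_closure hec⟩
  obtain ⟨F⟩ := (C.disc hS hi).nonempty_frame (e := e₀) (x := x₀) hec hxc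
    (fun h => hex (congrArg Subtype.val h.eq : x * e = e * x).symm)
  letI instV : CommGroup F.data.ESub :=
    { (inferInstance : Group F.data.ESub) with
      mul_comm := fun p q => Subtype.ext (F.data.E_comm p.2 q.2.1) }
  have hle := C.cliqueGroup_le hD hi (Or.inl rfl)
  let φ : C.cliqueGroup →* F.data.ESub :=
    { toFun := fun a => ⟨bar (⟨a, hle a.2⟩ : X), F.bar_mem_E (C.lift_mem hD hi (Or.inl rfl) rfl a.2)⟩
      map_one' := Subtype.ext (map_one _)
      map_mul' := fun p q => Subtype.ext (map_mul bar (⟨p, hle p.2⟩ : X) ⟨q, hle q.2⟩) }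
  have hcore : ∀ a : C.cliqueGroup, φ a = 1 ↔ Commute ((a : G) * x * (a : G)⁻¹) x := by
    intro a
    have h := F.mem_core_iff (C.lift_mem hD hi (Or.inl rfl) rfl a.2)
    rw [← bar_eq_one] at h
    constructor
    · intro h1
      exact (congrArg Subtype.val (h.mp (congrArg Subtype.val h1)).eq : _)
    · intro h1
      exact Subtype.ext (h.mpr (Subtype.ext h1.eq))
  have hsurj : Function.Surjective φ := by
    rintro ⟨z, hz⟩
    by_cases h1 : z = 1
    · exact ⟨1, Subtype.ext (by rw [map_one]; exact h1.symm)⟩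
    obtain ⟨⟨u, hu⟩, ⟨huS, hue⟩, hz'⟩ := F.exists_of_mem_E hz h1
    exact ⟨⟨u, Subgroup.subset_closure (C.mem_clique_of hS hi huS
      (congrArg Subtype.val hue.eq : u * e = e * u))⟩, Subtype.ext hz'⟩
  -- the automorphisms
  have hσ : ∀ y, C.Cen y → (y = i ∨ y = i' ∨ y = i * i') → ∃ σ : MulAut F.data.ESub, σ * σ = 1 ∧
      ∀ a : C.cliqueGroup, ∀ h, σ (φ a) = φ ⟨C.mover y * a * (C.mover y)⁻¹, h⟩ := by
    intro y hy hyi
    obtain ⟨hj2, -, -, hjx, -⟩ := C.mover_spec hS hy
    set j := C.mover y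
    let ψ : C.cliqueGroup →* F.data.ESub :=
      { toFun := fun a => φ ⟨j * a * j⁻¹, C.mover_group hS hy hyi a.2⟩
        map_one' := by
          rw [← map_one φ]; congr 1; exact Subtype.ext (by simp)
        map_mul' := fun p q => by
          rw [← map_mul]; congr 1; exact Subtype.ext (by simp [mul_assoc]) }
    have hker : φ.ker ≤ ψ.ker := by
      intro a ha
      rw [MonoidHom.mem_ker] at ha ⊢
      refine (hcore _).mpr ?_
      have := (Commute.conj_iff j).mpr ((hcore a).mp ha)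
      rw [show j * ((a : G) * x * (a : G)⁻¹) * j⁻¹ =
        j * a * j⁻¹ * (j * x * j⁻¹) * (j * a * j⁻¹)⁻¹ by group, hjx.eq, mul_inv_cancel_right] at this
      exact this
    let s := φ.liftOfSurjective hsurj ⟨ψ, hker⟩
    have hs : ∀ a, s (φ a) = ψ a := fun a => MonoidHom.liftOfRightInverse_comp_apply φ _ _ ⟨ψ, hker⟩ a
    have hinv : ∀ z, s (s z) = z := by
      intro z
      obtain ⟨a, rfl⟩ := hsurj z
      rw [hs]
      show s (φ _) = _
      rw [hs]
      show φ _ = φ a
      congr 1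
      refine Subtype.ext ?_
      show j * (j * (a : G) * j⁻¹) * j⁻¹ = a
      rw [show j * (j * (a : G) * j⁻¹) * j⁻¹ = j * j * a * (j * j)⁻¹ by group,
        StronglyEmbedded.mul_self_eq_one hj2, one_mul, inv_one, mul_one]
    exact ⟨MonoidHom.toMulEquiv s s (MonoidHom.ext hinv) (MonoidHom.ext hinv), MulEquiv.ext hinv,
      fun a h => hs a⟩
  choose σ hσ2 hσφ using hσ
  -- the regular cyclic group
  let κ : F.data.KSub →* MulAut F.data.ESub :=
    { toFun := fun c =>
        { toFun := fun v => ⟨(c : X ⧸ twoZCore X) * v * (c : X ⧸ twoZCore X)⁻¹,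
            F.data.conj_E (F.data.K_le c.2) v.2⟩
          invFun := fun v => ⟨(c : X ⧸ twoZCore X)⁻¹ * v * (c : X ⧸ twoZCore X), by
            have := F.data.conj_E (F.data.K_le (inv_mem c.2)) v.2
            rwa [inv_inv] at this⟩
          left_inv := fun v => Subtype.ext (by simp [mul_assoc])
          right_inv := fun v => Subtype.ext (by simp [mul_assoc])
          map_mul' := fun v z => Subtype.ext (show (c : X ⧸ twoZCore X) *
            ((v : X ⧸ twoZCore X) * (z : X ⧸ twoZCore X)) * (c : X ⧸ twoZCore X)⁻¹ =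
              ((c : X ⧸ twoZCore X) * v * (c : X ⧸ twoZCore X)⁻¹) *
              ((c : X ⧸ twoZCore X) * z * (c : X ⧸ twoZCore X)⁻¹) by group) }
      map_one' := MulEquiv.ext fun v => Subtype.ext (show (1 : X ⧸ twoZCore X) *
        (v : X ⧸ twoZCore X) * (1 : X ⧸ twoZCore X)⁻¹ = v by group)
      map_mul' := fun c c' => MulEquiv.ext fun v => Subtype.ext (show
        ((c : X ⧸ twoZCore X) * c') * (v : X ⧸ twoZCore X) * ((c : X ⧸ twoZCore X) * c')⁻¹ =
          (c : X ⧸ twoZCore X) * ((c' : X ⧸ twoZCore X) * v * (c' : X ⧸ twoZCore X)⁻¹) *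
            (c : X ⧸ twoZCore X)⁻¹ by group) }
  haveI := F.data.K_cyclic
  haveI : IsCyclic κ.range := isCyclic_of_surjective κ.rangeRestrict κ.rangeRestrict_surjective
  have heK : e ∈ C.clique :=
    ⟨C.line.1, hex, C.de.symm, Commute.refl e, heb, C.we.symm, (C.facts hD).2.2.2.2.1.symm⟩
  let ea : C.cliqueGroup := ⟨e, Subgroup.subset_closure heK⟩
  have hexp : ∀ v : F.data.ESub, v * v = 1 := fun v => Subtype.ext v.2.2
  have he1 : φ ea ≠ 1 := fun h => (C.disc hS hi).bar_ne_one (u := e₀) hec (congrArg Subtype.val h)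
  have heE : bar e₀ ∈ F.data.ESub := (φ ea).2
  have htr : ∀ v, v ≠ 1 → ∃ c ∈ κ.range, c (φ ea) = v := by
    intro v hv
    obtain ⟨c, hc, h⟩ := F.data.K_trans heE (fun h => he1 (Subtype.ext h)) v.2
      (fun h => hv (Subtype.ext h))
    exact ⟨κ ⟨c, hc⟩, ⟨⟨c, hc⟩, rfl⟩, Subtype.ext h⟩
  have hfree : ∀ c ∈ κ.range, c (φ ea) = φ ea → c = 1 := by
    rintro _ ⟨⟨c, hc⟩, rfl⟩ h
    have : c = 1 := F.eq_one_of_fix hc (congrArg Subtype.val h)
    subst this
    exact map_one κ
  have hnorm : ∀ y hy hyi, ∀ c ∈ κ.range, σ y hy hyi * c * (σ y hy hyi)⁻¹ ∈ κ.range := by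
    rintro y hy hyi _ ⟨⟨c, hc⟩, rfl⟩
    obtain ⟨u, ⟨huS, hue⟩, hcu⟩ := F.exists_prod_eq hc
    have huK : (u : G) ∈ C.clique := C.mem_clique_of hS hi huS (congrArg Subtype.val hue.eq : _)
    obtain ⟨hj2, -, -, hjx, hje, -⟩ := C.mover_spec hS hy
    set j := C.mover y with hj
    have hjxe : j * x * j⁻¹ = x ∧ j * e * j⁻¹ = e :=
      ⟨by rw [hjx.eq, mul_inv_cancel_right], by rw [hje.eq, mul_inv_cancel_right]⟩
    have hu' := C.mover_clique hS hy hyi huK
    set u' : X := ⟨j * u * j⁻¹, Subgroup.subset_closure (C.clique_subset_comp hD hi (Or.inl rfl) hu')⟩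
    have hc' : bar (mid x₀ e₀ * mid x₀ u') ∈ F.data.KSub :=
      F.bar_prod_mem (C.clique_subset_comp hD hi (Or.inl rfl) hu') (Subtype.ext hu'.2.2.2.1.eq)
    refine ⟨⟨_, hc'⟩, ?_⟩
    -- both products normalise the clique
    have hgK : ∀ g : X, bar g ∈ F.H → ∀ v ∈ C.clique, (g : G) * v * (g : G)⁻¹ ∈ C.clique := by
      intro g hg v hv
      let v₀ : X := ⟨v, Subgroup.subset_closure (C.clique_subset_comp hD hi (Or.inl rfl) hv)⟩
      have hvS : v₀ ∈ compSet D i x := C.clique_subset_comp hD hi (Or.inl rfl) hv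
      have hgv : g * v₀ * g⁻¹ ∈ compSet D i x :=
        (compSet_ot hD C.ix.symm C.memX).1.1.conj_mem v₀ hvS g
      have hH : bar (g * v₀ * g⁻¹) ∈ F.H := by
        rw [map_mul, map_mul, map_inv]
        exact mul_mem (mul_mem hg ((F.bar_mem_iff hvS).mpr (Subtype.ext hv.2.2.2.1.eq))) (inv_mem hg)
      exact C.mem_clique_of hS hi hgv (congrArg Subtype.val ((F.bar_mem_iff hgv).mp hH).eq : _)
    have hgA : ∀ g : X, bar g ∈ F.H → ∀ a ∈ C.cliqueGroup,
        (g : G) * a * (g : G)⁻¹ ∈ C.cliqueGroup := by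
      intro g hg a ha
      have h : C.cliqueGroup ≤ C.cliqueGroup.comap (MulAut.conj (g : G)).toMonoidHom := by
        rw [Subgroup.closure_le]
        exact fun v hv => Subgroup.subset_closure (hgK g hg v hv)
      exact h ha
    have hH : ∀ {z}, z ∈ F.data.KSub → z ∈ F.H := fun {z} hz => by
      have := (F.data.K_le hz).1
      rwa [SetLike.mem_coe, F.stab] at this
    have hg1 : bar (mid x₀ e₀ * mid x₀ u) ∈ F.H := hH (hcu ▸ hc)
    have hg2 : bar (mid x₀ e₀ * mid x₀ u') ∈ F.H := hH hc'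
    have hjg : j * ((mid x₀ e₀ * mid x₀ u : X) : G) * j⁻¹ = ((mid x₀ e₀ * mid x₀ u' : X) : G) := by
      rw [Subgroup.coe_mul, Subgroup.coe_mul, coe_mid, coe_mid, coe_mid]
      show j * (mid x e * mid x (u : G)) * j⁻¹ = mid x e * mid x (j * (u : G) * j⁻¹)
      rw [show j * (mid x e * mid x (u : G)) * j⁻¹ =
        j * mid x e * j⁻¹ * (j * mid x (u : G) * j⁻¹) by group, mid_conj, mid_conj, hjxe.1, hjxe.2]
    symm
    rw [mul_inv_eq_iff_eq_mul]
    refine MulEquiv.ext fun v => ?_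
    obtain ⟨a, rfl⟩ := hsurj v
    simp only [MulAut.mul_apply]
    have e1 : κ ⟨c, hc⟩ (φ a) = φ ⟨_, hgA _ hg1 a a.2⟩ := Subtype.ext (by
      show c * bar (⟨a, hle a.2⟩ : X) * c⁻¹ = bar _
      rw [← hcu, ← map_inv, ← map_mul, ← map_mul]
      exact congrArg bar (Subtype.ext rfl))
    rw [e1, hσφ y hy hyi _ (C.mover_group hS hy hyi (hgA _ hg1 a a.2)),
      hσφ y hy hyi a (C.mover_group hS hy hyi a.2)]
    refine Subtype.ext ?_
    show bar _ = bar (mid x₀ e₀ * mid x₀ u') * bar _ * (bar (mid x₀ e₀ * mid x₀ u'))⁻¹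
    rw [← map_inv, ← map_mul, ← map_mul]
    refine congrArg bar (Subtype.ext ?_)
    show j * (_ * (a : G) * _⁻¹) * j⁻¹ =
      ((mid x₀ e₀ * mid x₀ u' : X) : G) * (j * a * j⁻¹) * ((mid x₀ e₀ * mid x₀ u' : X) : G)⁻¹
    rw [← hjg]; group
  have hfixe : ∀ y hy hyi, σ y hy hyi (φ ea) = φ ea := fun y hy hyi => by
    rw [hσφ y hy hyi ea (C.mover_group hS hy hyi ea.2)]
    congr 1
    refine Subtype.ext ?_
    show C.mover y * e * (C.mover y)⁻¹ = e
    rw [(C.mover_spec hS hy).2.2.2.2.1.eq, mul_inv_cancel_right]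
  -- one of them is trivial
  have hone : ∃ y hy hyi, σ y hy hyi = 1 := by
    by_contra hno
    push Not at hno
    have h12 : σ i hi (Or.inl rfl) = σ i' hi' (Or.inr (Or.inl rfl)) :=
      rigid hexp he1 htr hfree (hσ2 _ _ _) (hno _ _ _) (hfixe _ _ _) (hnorm _ _ _) (hσ2 _ _ _)
        (hno _ _ _) (hfixe _ _ _) (hnorm _ _ _)
    refine hno (i * i') hii (Or.inr (Or.inr rfl)) ?_
    have hmul : σ i hi (Or.inl rfl) * σ i' hi' (Or.inr (Or.inl rfl)) =
        σ (i * i') hii (Or.inr (Or.inr rfl)) := by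
      refine MulEquiv.ext fun v => ?_
      obtain ⟨a, rfl⟩ := hsurj v
      have h1 := C.mover_group hS hi' (Or.inr (Or.inl rfl)) a.2
      have h3 := C.mover_group hS hii (Or.inr (Or.inr rfl)) a.2
      rw [MulAut.mul_apply, hσφ _ hi' _ a h1, hσφ _ hi _ _ (C.mover_group hS hi (Or.inl rfl) h1),
        hσφ _ hii _ a h3]
      congr 1
      refine Subtype.ext ?_
      show C.mover i * (C.mover i' * (a : G) * (C.mover i')⁻¹) * (C.mover i)⁻¹ = _
      have e1 : i⁻¹ * (a : G) * i = a := by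
        rw [mul_assoc, (C.commute_group hi (Or.inl rfl) a.2).eq, inv_mul_cancel_left]
      have e2 : i * (C.mover (i * i') * (a : G) * (C.mover (i * i'))⁻¹) * i⁻¹ =
          C.mover (i * i') * (a : G) * (C.mover (i * i'))⁻¹ := by
        rw [← (C.commute_group hi (Or.inl rfl) h3).eq, mul_inv_cancel_right]
      rw [show C.mover i * (C.mover i' * (a : G) * (C.mover i')⁻¹) * (C.mover i)⁻¹ =
          C.mover i * C.mover i' * a * (C.mover i * C.mover i')⁻¹ by group, C.movers_mul hS,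
        show i * C.mover (i * i') * i⁻¹ * (a : G) * (i * C.mover (i * i') * i⁻¹)⁻¹ =
          i * (C.mover (i * i') * (i⁻¹ * a * i) * (C.mover (i * i'))⁻¹) * i⁻¹ by
            generalize C.mover (i * i') = m; group, e1, e2]
    rw [← hmul, h12, hσ2]
  obtain ⟨y, hy, hyi, h1⟩ := hone
  refine ⟨y, hy, hyi, ?_⟩
  have hda : d ∈ C.cliqueGroup := Subgroup.subset_closure hdK
  have hdj := C.mover_group hS hy hyi hda
  have h2 := hσφ y hy hyi ⟨d, hda⟩ hdj
  rw [h1, MulAut.one_apply] at h2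
  have h3 : φ (⟨d, hda⟩⁻¹ * ⟨_, hdj⟩) = 1 := by rw [map_mul, map_inv, ← h2, inv_mul_cancel]
  exact (hcore _).mp h3

end Config

end CfsgLib.RootInv.OddCommon
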