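import Cfsg.Agent.RootInvolutions.OddCommon.Frame52

/-!
The odd component of `x` among the members commuting with an element `y`, as a set of odd
transpositions of the group it generates.
-/

set_option autoImplicit false

universe u

namespace CfsgLib.RootInv.OddCommon

open Cfsg CfsgLib.RootInv CfsgLib.RootInv99

variable {G : Type u} [Group G] {D : Set G}

/-- The members commuting with `y`. -/
def centMembers (D : Set G) (y : G) : Set G := {v | v ∈ D ∧ Commute v y}

/-- The odd component of `x` among the members commuting with `y`. -/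
def comp (D : Set G) (y x : G) : Set G :=
  {v | v ∈ centMembers D y ∧ Reach (centMembers D y) x v}

/-- The group generated by the component. -/
abbrev compGroup (D : Set G) (y x : G) : Subgroup G := Subgroup.closure (comp D y x)

/-- The component inside its group. -/
def compSet (D : Set G) (y x : G) : Set (compGroup D y x) := {h | (h : G) ∈ comp D y x}

theorem comp_subset {y x v : G} (h : v ∈ comp D y x) : v ∈ D := h.1.1

theorem compGroup_le (y x : G) : compGroup D y x ≤ Subgroup.centralizer {y} := by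
  rw [Subgroup.closure_le]
  exact fun v hv => Subgroup.mem_centralizer_singleton_iff.mpr hv.1.2

variable {y x p b : G}

theorem self_mem_comp (hx : x ∈ D) (hxy : Commute x y) : x ∈ comp D y x :=
  ⟨⟨hx, hxy⟩, Relation.ReflTransGen.refl⟩

section OT

variable (hD : IsOddTranspositionSet D)
include hD

theorem mem_comp_of_not_commute {v w : G} (hv : v ∈ comp D y x) (hw : w ∈ D) (hwy : Commute w y)
    (h : ¬ Commute w v) : w ∈ comp D y x :=
  ⟨⟨hw, hwy⟩, hv.2.tail ⟨hv.1, ⟨hw, hwy⟩, fun e => h (e ▸ Commute.refl v),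
    odd_of_not_commute hD hv.1.1 hw fun e => h e.symm⟩⟩

/-- An element centralising `y` and `x` maps the component to itself. -/
theorem conj_mem_comp {g v : G} (hgy : Commute g y) (hgx : Commute g x) (hv : v ∈ comp D y x) :
    g * v * g⁻¹ ∈ comp D y x := by
  have hmem : ∀ w ∈ centMembers D y, g * w * g⁻¹ ∈ centMembers D y := fun w hw =>
    ⟨hD.1.conj_mem w hw.1 g, (hgy.mul_left hw.2).mul_left hgy.inv_left⟩
  refine ⟨hmem v hv.1, ?_⟩
  have hx' : g * x * g⁻¹ = x := by rw [hgx.eq, mul_inv_cancel_right]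
  have := hv.2.lift (p := OddAdj (centMembers D y)) (fun w => g * w * g⁻¹) (fun a c hac =>
    ⟨hmem a hac.1, hmem c hac.2.1, fun e => hac.2.2.1 (by simpa using e), by
      rw [show g * a * g⁻¹ * (g * c * g⁻¹) = g * (a * c) * g⁻¹ by group,
        StronglyEmbedded.orderOf_conj]
      exact hac.2.2.2⟩)
  simpa only [Function.onFun, hx'] using this

variable [Finite G]

theorem compSet_ot (hxy : Commute x y) (hx : x ∈ D) :
    IsOddTranspositionSet (compSet D y x) ∧ OneClass (compSet D y x) := by
  have hconj : ∀ d ∈ comp D y x, ∀ s ∈ comp D y x, d * s * d ∈ comp D y x := by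
    intro d hd s hs
    by_cases hc : Commute d s
    · rw [hc.eq, mul_assoc, mul_self hD.1 hd.1.1, mul_one]; exact hs
    refine mem_comp_of_not_commute hD hd (conj_self_mem hD.1 hd.1.1 hs.1.1)
      ((hd.1.2.mul_left hs.1.2).mul_left hd.1.2) fun h => hc ?_
    have := (Commute.conj_iff d).mpr h
    rw [inv_self hD.1 hd.1.1, show d * (d * s * d) * d = d * d * s * (d * d) by group,
      mul_self hD.1 hd.1.1, one_mul, mul_one] at this
    rw [one_mul] at this
    exact this.symm
  have hroot : IsRootInvolutionSet (compSet D y x) :=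
    rootSet_restrict hD.1 (fun v hv => hv.1.1) rfl
      (conj_mem_of_generators hD.1 (fun v hv => hv.1.1) hconj)
      (fun a ha c hc hnc h4 => absurd (orderOf_eq_four hD.1 ha.1.1 hc.1.1 hnc h4)
        (hD.2 a ha.1.1 c hc.1.1))
  have hxc : x ∈ comp D y x := self_mem_comp hx hxy
  refine ⟨⟨hroot, fun a ha c hc h => hD.2 _ (comp_subset ha) _ (comp_subset hc) (by
    rwa [← Subgroup.orderOf_coe] at h)⟩, ?_⟩
  have key : ∀ v, Reach (centMembers D y) x v → v ∈ comp D y x ∧
      ∃ g ∈ compGroup D y x, v = g * x * g⁻¹ := by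
    intro v hv
    induction hv with
    | refl => exact ⟨hxc, 1, one_mem _, by group⟩
    | @tail b c _ hbc ih =>
      obtain ⟨hb, g, hg, hbe⟩ := ih
      have hcm : c ∈ comp D y x := ⟨hbc.2.1, hb.2.tail hbc⟩
      have hnc : ¬ Commute b c := not_commute_of_odd hD.1 hbc.1.1 hbc.2.1.1 hbc.2.2.1 hbc.2.2.2
      refine ⟨hcm, mid b c * g, mul_mem (mid_mem_of_mem (Subgroup.subset_closure hb)
        (Subgroup.subset_closure hcm)) hg, ?_⟩
      conv_lhs => rw [← mid_spec hD hb.1.1 hcm.1.1 hnc]
      rw [hbe, mul_inv_rev, inv_self hD.1 (mid_mem hD (hbe ▸ hb.1.1) hcm.1.1 (hbe ▸ hnc))]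
      simp only [mul_assoc]
  intro a ha c hc
  obtain ⟨-, g, hg, hga⟩ := key _ ha.2
  obtain ⟨-, g', hg', hgc⟩ := key _ hc.2
  refine ⟨⟨g' * g⁻¹, mul_mem hg' (inv_mem hg)⟩, Subtype.ext ?_⟩
  push_cast
  rw [hga, hgc]; group

end OT

/-- The induction hypothesis. -/
def Below (n : ℕ) : Prop :=
  ∀ (K : Type u) [Group K] [Finite K], Nat.card K < n → ∀ E : Set K, IsOddTranspositionSet E →
    OneClass E → (∃ a b, Line E a b) → IsConnectedSet (CommAdj E) E →
    ∀ d ∈ E, ∀ x ∈ E, ¬ Commute d x → Common E d x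

/-- If the component contains a bad pair its commuting graph is disconnected. -/
theorem disc_comp [Finite G] (hD : IsOddTranspositionSet D) (hc : RankOneBN.Criterion.{u})
    (hb : Below.{u} (Nat.card G)) (hy : y ∉ Subgroup.center G) (hx : x ∈ D) (hxy : Commute x y)
    (hl : Line D p b) (hpy : Commute p y) (hby : Commute b y) (hpx : ¬ Commute p x)
    {v w : G} (hv : v ∈ comp D y x) (hw : w ∈ comp D y x) (hvw : ¬ Commute v w)
    (hbad : ¬ Common D v w) : Disc (compSet D y x) := by
  obtain ⟨hot, hone⟩ := compSet_ot hD hxy hx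
  have hxc : x ∈ comp D y x := self_mem_comp hx hxy
  have hp : p ∈ comp D y x := mem_comp_of_not_commute hD hxc hl.1 hpy hpx
  have hb' : b ∈ comp D y x := mem_comp_of_not_commute hD hxc hl.2.1 hby fun h =>
    hpx (commute_of_line hD (Line.symm hD.1 hl) hx h.symm).symm
  have hpb : p * b ∈ comp D y x := mem_comp_of_not_commute hD hxc hl.2.2 (hpy.mul_left hby) fun h =>
    hpx (commute_of_line hD (Line.symm hD.1 (Line.third hD.1 hl)) hx h.symm).symm
  have hline : ∃ a c, Line (compSet D y x) a c :=
    ⟨⟨p, Subgroup.subset_closure hp⟩, ⟨b, Subgroup.subset_closure hb'⟩, hp, hb', hpb⟩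
  refine ⟨hot, hone, hline, fun hconn => hbad ?_, hc⟩
  have hlt : Nat.card (compGroup D y x) < Nat.card G := by
    refine lt_of_le_of_ne (Subgroup.card_le_card_group _) fun e => hy ?_
    have htop := (Subgroup.card_eq_iff_eq_top _).mp e
    rw [Subgroup.mem_center_iff]
    intro g
    exact Subgroup.mem_centralizer_singleton_iff.mp
      (compGroup_le (D := D) y x (htop ▸ Subgroup.mem_top g))
  obtain ⟨c, hcm, h1, h2⟩ := hb _ hlt _ hot hone hline hconn
    ⟨v, Subgroup.subset_closure hv⟩ hv ⟨w, Subgroup.subset_closure hw⟩ hw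
    (fun h => hvw (congrArg Subtype.val h.eq : v * w = w * v))
  exact ⟨c, comp_subset hcm, (congrArg Subtype.val h1.eq : (c : G) * v = v * c),
    (congrArg Subtype.val h2.eq : (c : G) * w = w * c)⟩

end CfsgLib.RootInv.OddCommon
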