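import Cfsg.Agent.RootInvolutions.OddCommon.Basic52
import Cfsg.Agent.RootInvolutions.FromCriterion99
import Cfsg.Agent.RankOne.Classify.TBasic
import Cfsg.Agent.StrongEmb.RankOneBridge

/-!
Odd transpositions in one class with a disconnected commuting graph: the rank one set-up in the
simple quotient seen through members commuting with `e` and a member `x` not commuting with `e`.
-/

set_option autoImplicit false

universe u

namespace CfsgLib.RootInv.OddCommon

open Cfsg MulAction CfsgLib.RootInv CfsgLib.RootInv99 CfsgLib.RankOneClassify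

theorem stronglyEmbedded_conj {G : Type*} [Group G] [Finite G] {H : Subgroup G}
    (hH : IsStronglyEmbedded H) (g : G) :
    IsStronglyEmbedded (H.map (MulAut.conj g).toMonoidHom) := by
  obtain ⟨hne, heven, hconj⟩ := StronglyEmbedded.iff_conj_mem.mp hH
  have hcard : Nat.card (H.map (MulAut.conj g).toMonoidHom) = Nat.card H :=
    (Nat.card_congr (H.equivMapOfInjective _ (MulAut.conj g).injective).toEquiv).symm
  refine StronglyEmbedded.intro_of_conj_mem (fun h => hne ?_) (hcard ▸ heven) ?_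
  · apply Subgroup.eq_top_of_card_eq
    rw [← hcard, h, Subgroup.card_top]
  · intro t y ht htH hyt
    rw [Subgroup.mem_map_equiv, MulAut.conj_symm_apply] at htH hyt ⊢
    refine hconj (g⁻¹ * t * g) (g⁻¹ * y * g) ?_ htH ?_
    · have := StronglyEmbedded.orderOf_conj g⁻¹ t
      rw [inv_inv] at this
      rw [this, ht]
    · rwa [show g⁻¹ * y * g * (g⁻¹ * t * g) * (g⁻¹ * y * g)⁻¹ = g⁻¹ * (y * t * y⁻¹) * g by group]

variable {Y : Type u} [Group Y] [Finite Y] {S : Set Y}

/-- One class of odd transpositions with a line and a disconnected commuting graph. -/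
structure Disc (S : Set Y) : Prop where
  ot : IsOddTranspositionSet S
  one : OneClass S
  line : ∃ a b, Line S a b
  dis : ¬ IsConnectedSet (CommAdj S) S
  crit : RankOneBN.Criterion.{u}

/-- The simple quotient. -/
abbrev bar : Y →* Y ⧸ twoZCore Y := QuotientGroup.mk' (twoZCore Y)

theorem bar_eq_one {g : Y} : bar g = 1 ↔ g ∈ twoZCore Y := QuotientGroup.eq_one_iff g

namespace Disc

variable (h : Disc S) {u v w e x : Y}
include h

theorem commute_of_bar (hu : u ∈ S) (hv : v ∈ S) (hc : Commute (bar u) (bar v)) : Commute u v := by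
  by_contra hn
  have ho := odd_of_not_commute h.ot hu hv hn
  have h2 : bar (u * v) * bar (u * v) = 1 := by
    rw [map_mul, show bar u * bar v * (bar u * bar v) = bar u * (bar v * bar u) * bar v by group,
      ← hc.eq, show bar u * (bar u * bar v) * bar v = bar u * bar u * (bar v * bar v) by group,
      ← map_mul, ← map_mul bar v v, mul_self h.ot.1 hu, mul_self h.ot.1 hv, map_one, one_mul]
  exact hn (eq_of_mul_mem_twoZCore h.ot.1 hu hv ho
    (bar_eq_one.mp (eq_one_of_sq_of_odd h2 (ho.of_dvd_nat (orderOf_map_dvd _ _)))) ▸ Commute.refl u)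

theorem orderOf_bar (hu : u ∈ S) : orderOf (bar u) = 2 := by
  obtain ⟨a, b, hl⟩ := h.line
  exact (image_isRootInvolutionSet h.ot.1 h.one hl).orderOf_eq _ ⟨u, hu, rfl⟩

theorem bar_ne_one (hu : u ∈ S) : bar u ≠ 1 :=
  StronglyEmbedded.ne_one_of_orderOf_two (h.orderOf_bar hu)

theorem exists_not_commute (hv : v ∈ S) : ∃ x ∈ S, ¬ Commute v x := by
  by_contra hcon
  push Not at hcon
  exact h.dis fun a ha b hb => (creach_of_commute ha hv (hcon a ha).symm).trans
    (creach_of_commute hv hb (hcon b hb))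

theorem bar_mid (hu : u ∈ S) (hv : v ∈ S) (hx : x ∈ S) (hux : ¬ Commute x u)
    (hvx : ¬ Commute x v) (huv : bar u = bar v) : bar (mid x u) = bar (mid x v) := by
  have key : ∀ z ∈ S, ¬ Commute x z → Odd (orderOf (bar x * bar (mid x z))) := fun z hz hxz => by
    rw [← map_mul]
    exact (odd_of_not_commute h.ot hx (mid_mem h.ot hx hz hxz)
      fun hc => mid_not_commute h.ot hx hz hxz hc.symm).of_dvd_nat (orderOf_map_dvd _ _)
  refine RootPoints.eq_of_conj_eq (key u hu hux) (key v hv hvx) ?_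
  rw [← map_mul, ← map_mul, mid_spec h.ot hx hu hux, ← map_mul, ← map_mul,
    mid_spec h.ot hx hv hvx, huv]

end Disc

/-- The set-up at a member `e` and a member `x` not commuting with it. -/
structure Frame (S : Set Y) (e x : Y) where
  disc : Disc S
  memE : e ∈ S
  memX : x ∈ S
  apart : ¬ Commute x e
  H : Subgroup (Y ⧸ twoZCore Y)
  Q : Subgroup (Y ⧸ twoZCore Y)
  se : IsStronglyEmbedded H
  data : Data (Y ⧸ twoZCore Y) ((Y ⧸ twoZCore Y) ⧸ H) ((1 : Y ⧸ twoZCore Y) : (Y ⧸ twoZCore Y) ⧸ H)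
    (bar (mid x e)) Q
  bar_mem : bar e ∈ H

theorem Disc.nonempty_frame (h : Disc S) {e x : Y} (he : e ∈ S) (hx : x ∈ S)
    (hxe : ¬ Commute x e) : Nonempty (Frame S e x) := by
  haveI : Fact (Nat.Prime 2) := ⟨Nat.prime_two⟩
  obtain ⟨a, b, hl⟩ := h.line
  haveI := (solvableRadical_and_simple h.ot.1 h.one hl).2
  have hone' : OneClass (bar '' S) := by
    rintro _ ⟨p, hp, rfl⟩ _ ⟨q, hq, rfl⟩
    obtain ⟨g, rfl⟩ := h.one p hp q hq
    exact ⟨bar g, by rw [map_mul, map_mul, map_inv]⟩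
  have hdis' : ¬ IsConnectedSet (CommAdj (bar '' S)) (bar '' S) := fun hc => h.dis fun p hp q hq =>
    creach_of_image h.ot.1 h.one hl hp hq (hc _ ⟨p, hp, rfl⟩ _ ⟨q, hq, rfl⟩)
  obtain ⟨H₀, hH₀⟩ := RootPoints.seHyp h.crit _ (bar '' S) (image_isRootInvolutionSet h.ot.1 h.one hl)
    hone' ⟨bar a, bar b, ⟨a, hl.1, rfl⟩, ⟨b, hl.2.1, rfl⟩, ⟨a * b, hl.2.2, map_mul bar a b⟩⟩ hdis'
  obtain ⟨z, hz, hz2⟩ := StronglyEmbedded.exists_involution hH₀
  obtain ⟨g, hg⟩ := isConj_iff.mp (StronglyEmbedded.isConj_involutions hH₀ hz2 (h.orderOf_bar he))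
  set H := H₀.map (MulAut.conj g).toMonoidHom
  have hH : IsStronglyEmbedded H := stronglyEmbedded_conj hH₀ g
  have heH : bar e ∈ H := ⟨z, hz, hg⟩
  obtain ⟨h2, hcore⟩ := rankTwo_of_simple hH
  obtain ⟨Q, hQ, hQ2, hinv⟩ := RankOneClassify.allPPlus _ H hH h2 hcore
  have hm := mid_mem h.ot hx he hxe
  have htH : bar (mid x e) ∉ H := fun hmem => by
    obtain ⟨-, hc⟩ := hinv _ (h.orderOf_bar hm) hmem
    have hce := h.commute_of_bar hm he (hc _ (hinv _ (h.orderOf_bar he) heH).1)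
    refine hxe ?_
    have h1 := mid_spec' h.ot hx he hxe
    rw [hce.eq, mul_assoc, mul_self h.ot.1 hm, mul_one] at h1
    exact h1 ▸ Commute.refl x
  obtain ⟨r, s, hr, hs, hrs, hc⟩ := h2
  exact ⟨⟨h, he, hx, hxe, H, Q, hH,
    ⟨StrongEmb.isRankOneSetup hH hQ (h.orderOf_bar hm) htH, StrongEmb.faithfulSMul_quotient hcore,
      ⟨r, s, StronglyEmbedded.ne_one_of_orderOf_two hr, StronglyEmbedded.ne_one_of_orderOf_two hs,
        hrs, StronglyEmbedded.mul_self_eq_one hr, StronglyEmbedded.mul_self_eq_one hs, hc⟩, hQ2⟩,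
    heH⟩⟩

namespace Frame

variable {e x : Y} (F : Frame S e x) {u v a d : Y}
include F

theorem stab : stabilizer (Y ⧸ twoZCore Y) ((1 : Y ⧸ twoZCore Y) : (Y ⧸ twoZCore Y) ⧸ F.H) = F.H :=
  MulAction.stabilizer_quotient F.H

theorem mid_mem_S : mid x e ∈ S := mid_mem F.disc.ot F.memX F.memE F.apart

theorem bar_mid_sq : bar (mid x e) * bar (mid x e) = 1 := F.data.setup.mul_self

theorem bar_mid_inv : (bar (mid x e))⁻¹ = bar (mid x e) := inv_eq_of_mul_eq_one_right F.bar_mid_sq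

theorem conj_bar_x : bar (mid x e) * bar x * (bar (mid x e))⁻¹ = bar e := by
  rw [F.bar_mid_inv, ← map_mul, ← map_mul, mid_spec F.disc.ot F.memX F.memE F.apart]

theorem mem_E_of_invol {g : Y ⧸ twoZCore Y} (hg : g ∈ F.H) (h1 : g ≠ 1) (h2 : g * g = 1) :
    g ∈ F.data.ESub :=
  ((F.data.mem_invol).1 ⟨by rw [SetLike.mem_coe, F.stab]; exact hg, h1, h2⟩).1

theorem commute_of_mem_H {g g' : Y ⧸ twoZCore Y} (hg : g ∈ F.H) (h2 : orderOf g = 2) (hg' : g' ∈ F.H)
    (h2' : orderOf g' = 2) : Commute g g' :=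
  F.data.E_comm (F.mem_E_of_invol hg (StronglyEmbedded.ne_one_of_orderOf_two h2)
      (StronglyEmbedded.mul_self_eq_one h2))
    (F.mem_E_of_invol hg' (StronglyEmbedded.ne_one_of_orderOf_two h2')
      (StronglyEmbedded.mul_self_eq_one h2')).1

theorem bar_mem_iff (hu : u ∈ S) : bar u ∈ F.H ↔ Commute u e := by
  refine ⟨fun h => F.disc.commute_of_bar hu F.memE (F.commute_of_mem_H h (F.disc.orderOf_bar hu)
    F.bar_mem (F.disc.orderOf_bar F.memE)), fun h => ?_⟩
  exact StronglyEmbedded.mem_of_commute F.se (F.disc.orderOf_bar F.memE) F.bar_mem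
    (h.map bar)

theorem apart_of (hu : u ∈ S) (hue : Commute u e) : ¬ Commute x u := fun hc => F.apart <| by
  have hxH : bar x ∈ F.H := StronglyEmbedded.mem_of_commute F.se (F.disc.orderOf_bar hu)
    ((F.bar_mem_iff hu).mpr hue) (hc.map bar)
  exact (F.bar_mem_iff F.memX).mp hxH

theorem bar_mem_E {a : Y} (ha : a ∈ Subgroup.closure {u | u ∈ S ∧ Commute u e}) :
    bar a ∈ F.data.ESub := by
  refine Subgroup.closure_induction (p := fun g _ => bar g ∈ F.data.ESub) ?_ ?_ ?_ ?_ ha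
  · rintro g ⟨hg, hge⟩
    exact F.mem_E_of_invol ((F.bar_mem_iff hg).mpr hge) (F.disc.bar_ne_one hg)
      (by rw [← map_mul, mul_self F.disc.ot.1 hg, map_one])
  · rw [map_one]; exact one_mem _
  · intro p q _ _ hp hq
    rw [map_mul]; exact mul_mem hp hq
  · intro p _ hp
    rw [map_inv]; exact inv_mem hp

theorem exists_of_mem_E {z : Y ⧸ twoZCore Y} (hz : z ∈ F.data.ESub) (h1 : z ≠ 1) :
    ∃ u, (u ∈ S ∧ Commute u e) ∧ bar u = z := by
  have hz2 : orderOf z = 2 := StronglyEmbedded.orderOf_two_iff.mpr ⟨hz.2, h1⟩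
  obtain ⟨g, hg⟩ := isConj_iff.mp
    (StronglyEmbedded.isConj_involutions F.se (F.disc.orderOf_bar F.memE) hz2)
  obtain ⟨g, rfl⟩ := QuotientGroup.mk'_surjective _ g
  have hu := F.disc.ot.1.conj_mem e F.memE g
  have hbu : bar (g * e * g⁻¹) = z := by rw [map_mul, map_mul, map_inv]; exact hg
  refine ⟨g * e * g⁻¹, ⟨hu, (F.bar_mem_iff hu).mp ?_⟩, hbu⟩
  rw [hbu, ← F.stab]
  exact F.data.setup.le hz.1

/-- A product of members commuting with `e` lies in the core exactly when it moves `x` to a member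
commuting with `x`. -/
theorem mem_core_iff (ha : a ∈ Subgroup.closure {u | u ∈ S ∧ Commute u e}) :
    a ∈ twoZCore Y ↔ Commute (a * x * a⁻¹) x := by
  have hx' := F.disc.ot.1.conj_mem x F.memX a
  constructor
  · intro h
    refine F.disc.commute_of_bar hx' F.memX ?_
    rw [map_mul, map_mul, map_inv, bar_eq_one.mpr h, one_mul, inv_one, mul_one]
  · intro hc
    refine bar_eq_one.mp ?_
    set t := bar (mid x e) with ht
    set g := t * bar a * t⁻¹ with hg
    have hge : g * bar e * g⁻¹ = t * bar (a * x * a⁻¹) * t⁻¹ := by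
      rw [hg, ← F.conj_bar_x, ← ht, map_mul, map_mul, map_inv]; group
    have hgH : g ∈ F.H := by
      refine StronglyEmbedded.mem_of_conj_mem F.se (F.disc.orderOf_bar F.memE) F.bar_mem ?_
      rw [hge]
      refine StronglyEmbedded.mem_of_commute F.se (F.disc.orderOf_bar F.memE) F.bar_mem ?_
      rw [← F.conj_bar_x, ← ht]
      exact (Commute.conj_iff t).mpr (hc.map bar)
    refine CfsgLib.RankOne.eq_one_of_mem_Q_fix F.data.setup (F.bar_mem_E ha).1 ?_
    have h1 := CfsgLib.RankOne.t_conj_mem_stab F.data.setup (x := g) (by rw [F.stab]; exact hgH)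
    rwa [hg, ← ht, show t * (t * bar a * t⁻¹) * t = t * t * bar a * (t⁻¹ * t) by group, inv_mul_cancel,
      mul_one, F.bar_mid_sq, one_mul] at h1

/-- The products of middles lie in the inverted cyclic group. -/
theorem bar_prod_mem (hu : u ∈ S) (hue : Commute u e) :
    bar (mid x e * mid x u) ∈ F.data.KSub := by
  have hm := mid_mem F.disc.ot F.memX hu (F.apart_of hu hue)
  set t := bar (mid x e) with ht
  have hmb : (bar (mid x u))⁻¹ = bar (mid x u) := by
    rw [← map_inv, inv_self F.disc.ot.1 hm]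
  set g := bar (mid x e * mid x u) with hg
  have hinv : g⁻¹ = t * g * t⁻¹ := by
    rw [hg, map_mul, mul_inv_rev, hmb, ← ht, F.bar_mid_inv,
      show t * (t * bar (mid x u)) * t = t * t * bar (mid x u) * t by group, F.bar_mid_sq, one_mul]
  have hgH : g ∈ F.H := by
    refine StronglyEmbedded.mem_of_conj_mem F.se (F.disc.orderOf_bar hu) ((F.bar_mem_iff hu).mpr hue) ?_
    rw [hg, map_mul, mul_inv_rev, hmb, ← ht,
      show t * bar (mid x u) * bar u * (bar (mid x u) * t⁻¹) =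
        t * (bar (mid x u) * bar u * bar (mid x u)) * t⁻¹ by group,
      ← map_mul, ← map_mul, mid_spec' F.disc.ot F.memX hu (F.apart_of hu hue), F.conj_bar_x]
    exact F.bar_mem
  refine (F.data.mem_K).2 ⟨⟨by rw [SetLike.mem_coe, F.stab]; exact hgH, ?_⟩, hinv.symm⟩
  have h1 := CfsgLib.RankOne.t_conj_mem_stab F.data.setup (x := g⁻¹) (by rw [F.stab]; exact inv_mem hgH)
  rwa [← ht, hinv, show t * (t * g * t⁻¹) * t = t * t * g * (t⁻¹ * t) by group, inv_mul_cancel, mul_one,
    F.bar_mid_sq, one_mul] at h1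

theorem prod_conj (hu : u ∈ S) (hxu : ¬ Commute x u) :
    mid x e * mid x u * u * (mid x e * mid x u)⁻¹ = e := by
  have hm := mid_mem F.disc.ot F.memX hu hxu
  rw [mul_inv_rev, inv_self F.disc.ot.1 hm, inv_self F.disc.ot.1 (F.mid_mem_S),
    show mid x e * mid x u * u * (mid x u * mid x e) = mid x e * (mid x u * u * mid x u) * mid x e by
      group, mid_spec' F.disc.ot F.memX hu hxu, mid_spec F.disc.ot F.memX F.memE F.apart]

theorem eq_one_of_fix {c : Y ⧸ twoZCore Y} (hc : c ∈ F.data.KSub)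
    (h : c * bar e * c⁻¹ = bar e) : c = 1 :=
  F.data.K_free hc (F.mem_E_of_invol F.bar_mem (F.disc.bar_ne_one F.memE)
    (by rw [← map_mul, mul_self F.disc.ot.1 F.memE, map_one])) (F.disc.bar_ne_one F.memE)
    (mul_inv_eq_iff_eq_mul.mp h).symm

theorem exists_prod_eq {c : Y ⧸ twoZCore Y} (hc : c ∈ F.data.KSub) :
    ∃ u, (u ∈ S ∧ Commute u e) ∧ bar (mid x e * mid x u) = c := by
  have he := F.mem_E_of_invol F.bar_mem (F.disc.bar_ne_one F.memE)
    (by rw [← map_mul, mul_self F.disc.ot.1 F.memE, map_one])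
  have hc' : c⁻¹ * bar e * c⁻¹⁻¹ ∈ F.data.ESub := F.data.conj_E (inv_mem (F.data.K_le hc)) he
  obtain ⟨u, hu, hbu⟩ := F.exists_of_mem_E hc' (fun h1 => F.disc.bar_ne_one F.memE (by
    rwa [mul_inv_eq_one, mul_eq_left] at h1))
  refine ⟨u, hu, ?_⟩
  have hg := F.bar_prod_mem hu.1 hu.2
  set g := bar (mid x e * mid x u) with hgd
  have h1 := F.eq_one_of_fix (mul_mem hg (inv_mem hc)) (by
    have := congrArg bar (F.prod_conj hu.1 (F.apart_of hu.1 hu.2))
    rw [map_mul, map_mul, map_inv, hbu, ← hgd] at this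
    rw [show g * c⁻¹ * bar e * (g * c⁻¹)⁻¹ = g * (c⁻¹ * bar e * c⁻¹⁻¹) * g⁻¹ by group]
    exact this)
  exact mul_inv_eq_one.mp h1

theorem commutator_mem_pCore {g s : Y} (hg : bar g ∈ F.data.KSub) (hs : bar s ∈ F.data.KSub) :
    Commute (QuotientGroup.mk' (pCore 2 Y) g) (QuotientGroup.mk' (pCore 2 Y) s) := by
  haveI := F.data.K_cyclic
  obtain ⟨⟨c, hc⟩, hgen⟩ := IsCyclic.exists_generator (α := F.data.KSub)
  obtain ⟨c, rfl⟩ := QuotientGroup.mk'_surjective (twoZCore Y) c
  set ρ := QuotientGroup.mk' (pCore 2 Y)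
  have key : ∀ w : Y, bar w ∈ F.data.KSub → ∃ i : ℤ, ∃ z ∈ twoZCore Y, w = c ^ i * z := by
    intro w hw
    obtain ⟨i, hi⟩ := hgen ⟨bar w, hw⟩
    refine ⟨i, (c ^ i)⁻¹ * w, bar_eq_one.mp ?_, by group⟩
    have h := congrArg Subtype.val hi
    simp only [SubgroupClass.coe_zpow] at h
    rw [map_mul, map_inv, map_zpow, h, inv_mul_cancel]
  obtain ⟨i, z, hz, rfl⟩ := key g hg
  obtain ⟨j, z', hz', rfl⟩ := key s hs
  have hzc : ∀ z ∈ twoZCore Y, ∀ y, Commute y (ρ z) := fun z hz y =>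
    Subgroup.mem_center_iff.mp hz y
  rw [map_mul, map_mul, map_zpow, map_zpow]
  refine Commute.mul_left ?_ (hzc z hz _).symm
  exact ((Commute.refl (ρ c)).zpow_zpow i j).mul_right (hzc z' hz' _)

theorem odd_prod (hu : u ∈ S) (hue : Commute u e) (hne : bar u ≠ bar e) :
    Odd (orderOf (mid x e * mid x u)) ∧ bar (mid x e * mid x u) ≠ 1 := by
  have hg := F.bar_prod_mem hu hue
  have h1 : bar (mid x e * mid x u) ≠ 1 := fun h => hne (by
    have := congrArg bar (F.prod_conj hu (F.apart_of hu hue))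
    rw [map_mul, map_mul, map_inv, h, one_mul, inv_one, mul_one] at this
    exact this)
  refine ⟨(odd_or_commute F.disc.ot F.mid_mem_S
    (mid_mem F.disc.ot F.memX hu (F.apart_of hu hue))).resolve_left fun hc => h1 ?_, h1⟩
  refine eq_one_of_sq_of_odd ?_ (F.data.setup.odd_card.of_dvd_nat
    (Subgroup.orderOf_dvd_natCard _ (F.data.K_le hg)))
  rw [← map_mul, ← pow_two, (commute_iff F.disc.ot.1 F.mid_mem_S
    (mid_mem F.disc.ot F.memX hu (F.apart_of hu hue))).mp hc, map_one]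

/-- Over every middle some member inverts `s` exactly. -/
theorem exists_inverter (hv : v ∈ S) (hve : Commute v e) (hne : bar v ≠ bar e) (hd : d ∈ S)
    (hde : Commute d e) : ∃ m ∈ S, bar m = bar (mid x d) ∧
      m * (mid x e * mid x v) * m⁻¹ = (mid x e * mid x v)⁻¹ := by
  haveI : Fact (Nat.Prime 2) := ⟨Nat.prime_two⟩
  obtain ⟨hodd, -⟩ := F.odd_prod hv hve hne
  have hsK := F.bar_prod_mem hv hve
  have hgK := F.bar_prod_mem hd hde
  set t := mid x e with ht
  have htS : t ∈ S := F.mid_mem_S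
  have hmv := mid_mem F.disc.ot F.memX hv (F.apart_of hv hve)
  have htinv : t * (t * mid x v) * t⁻¹ = (t * mid x v)⁻¹ := by
    rw [mul_inv_rev, inv_self F.disc.ot.1 hmv, inv_self F.disc.ot.1 htS, cancel F.disc.ot.1 htS]
  set s := t * mid x v with hs
  set m := mid x d with hm
  have hmS : m ∈ S := mid_mem F.disc.ot F.memX hd (F.apart_of hd hde)
  set ρ := QuotientGroup.mk' (pCore 2 Y)
  have hcomm : Commute (ρ (t * m)) (ρ s) := F.commutator_mem_pCore hgK hsK
  have hcomm2 : ρ (t * m * s * (t * m)⁻¹) = ρ s := by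
    rw [map_mul, map_mul, map_inv, hcomm.eq, mul_inv_cancel_right]
  have hb : m * s * m⁻¹ * s⁻¹⁻¹ ∈ pCore 2 Y := by
    refine (QuotientGroup.eq_one_iff _).mp ?_
    show ρ (m * s * m⁻¹ * s⁻¹⁻¹) = 1
    rw [show m * s * m⁻¹ = t⁻¹ * (t * m * s * (t * m)⁻¹) * t by group, map_mul, map_mul, map_mul,
      hcomm2, ← map_mul, ← map_mul, ← map_mul, inv_inv,
      show t⁻¹ * s * t = t * s * t⁻¹ by rw [inv_self F.disc.ot.1 htS],
      htinv, inv_mul_cancel, map_one]
  have hcop : (orderOf s⁻¹).Coprime (Nat.card (pCore 2 Y)) := by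
    obtain ⟨k, hk⟩ := IsPGroup.iff_card.1 (LocalP.isPGroup_pCore (G := Y) (p := 2))
    rw [orderOf_inv, hk]
    exact Nat.Coprime.pow_right k hodd.coprime_two_right
  obtain ⟨q, hq, hqs⟩ := exists_conj_of_coset (pCore 2 Y) (a := s⁻¹) (b := m * s * m⁻¹)
    (by rw [Subgroup.normalizer_eq_top]; exact Subgroup.mem_top _) hcop
    (by rw [orderOf_inv, conj_pow, pow_orderOf_eq_one]; group) hb
  set c := q * m * t with hc
  have hcs : Commute c s := by
    show c * s = s * c
    refine mul_inv_eq_iff_eq_mul.mp ?_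
    rw [hc, show q * m * t * s * (q * m * t)⁻¹ = q * (m * (t * s * t⁻¹) * m⁻¹) * q⁻¹ by group, htinv,
      show q * (m * s⁻¹ * m⁻¹) * q⁻¹ = (q * (m * s * m⁻¹) * q⁻¹)⁻¹ by group, hqs, inv_inv]
  have hcb : bar c = (bar (t * m))⁻¹ := by
    have hq1 : bar q = 1 := bar_eq_one.mpr (show QuotientGroup.mk' (pCore 2 Y) q ∈ Subgroup.center _ by
      rw [show QuotientGroup.mk' (pCore 2 Y) q = 1 from (QuotientGroup.eq_one_iff q).mpr hq]
      exact one_mem _)
    rw [hc, map_mul, map_mul, hq1, one_mul, ← map_mul, ← map_inv, mul_inv_rev,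
      inv_self F.disc.ot.1 hmS, inv_self F.disc.ot.1 htS]
  obtain ⟨o, (ho : orderOf (bar (t * m)) = 2 * o + 1)⟩ := F.data.setup.odd_card.of_dvd_nat
    (Subgroup.orderOf_dvd_natCard _ (F.data.K_le hgK))
  have hk : bar (t * m) ^ (o + 1) * bar (t * m) ^ (o + 1) = bar (t * m) := by
    rw [← pow_add, show o + 1 + (o + 1) = orderOf (bar (t * m)) + 1 by omega, pow_succ,
      pow_orderOf_eq_one, one_mul]
  refine ⟨c ^ (o + 1) * t * (c ^ (o + 1))⁻¹, F.disc.ot.1.conj_mem t htS _, ?_, ?_⟩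
  · rw [map_mul, map_mul, map_inv, map_pow, hcb, inv_pow, inv_inv]
    have hgt : bar t * bar (t * m) * (bar t)⁻¹ = (bar (t * m))⁻¹ := ((F.data.mem_K).1 hgK).2
    have hP := ((F.data.mem_K).1 (pow_mem hgK (o + 1))).2
    rw [← ht] at hP
    generalize bar (t * m) ^ (o + 1) = P at hk hP ⊢
    calc P⁻¹ * bar t * P = P⁻¹ * (bar t * P * (bar t)⁻¹) * bar t := by group
      _ = (P * P)⁻¹ * bar t := by rw [hP]; group
      _ = bar m := by
          rw [hk, map_mul, mul_inv_rev, mul_assoc,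
            inv_mul_cancel, mul_one, ← map_inv, inv_self F.disc.ot.1 hmS]
  · have hcs' : Commute (c ^ (o + 1)) s := hcs.pow_left _
    generalize c ^ (o + 1) = C at hcs'
    calc C * t * C⁻¹ * s * (C * t * C⁻¹)⁻¹
        = C * (t * (C⁻¹ * s * C) * t⁻¹) * C⁻¹ := by group
      _ = C * (t * s * t⁻¹) * C⁻¹ := by rw [mul_assoc C⁻¹, ← hcs'.eq, inv_mul_cancel_left]
      _ = s⁻¹ := by rw [htinv, hcs'.inv_right.eq, mul_inv_cancel_right]

/-- Two members inverting the same element of odd order with the same image are equal. -/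
theorem inverter_unique {m m' s : Y} (hm : m ∈ S) (hm' : m' ∈ S) (hc : Commute m m')
    (hs : Odd (orderOf s)) (hs1 : s ≠ 1) (h1 : m * s * m⁻¹ = s⁻¹) (h2 : m' * s * m'⁻¹ = s⁻¹) :
    m = m' := by
  set r := m * m' with hr
  have hrs : Commute r s := by
    show r * s = s * r
    refine mul_inv_eq_iff_eq_mul.mp ?_
    rw [hr, show m * m' * s * (m * m')⁻¹ = m * (m' * s * m'⁻¹) * m⁻¹ by group, h2,
      show m * s⁻¹ * m⁻¹ = (m * s * m⁻¹)⁻¹ by group, h1, inv_inv]
  have hr2 : r * r = 1 := by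
    rw [← pow_two]; exact (commute_iff F.disc.ot.1 hm hm').mp hc
  have he : s * m * s⁻¹ * m' = s * s * r := by
    have h1' : m * s⁻¹ = s * m := by
      rw [show m * s⁻¹ = (m * s * m⁻¹)⁻¹ * m by group, h1, inv_inv]
    rw [hr, mul_assoc s m, h1']
    simp only [mul_assoc]
  have hy := F.disc.ot.1.conj_mem m hm s
  have hss : s * s ≠ 1 := fun h => hs1 (eq_one_of_sq_of_odd h hs)
  have hcr : Commute (s * s) r := hrs.symm.mul_left hrs.symm
  have hso : Odd (orderOf (s * s)) := by rw [← pow_two]; exact hs.of_dvd_nat (orderOf_pow_dvd _)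
  rcases odd_or_commute F.disc.ot hy hm' with hc' | ho
  · exfalso
    have h3 := (commute_iff F.disc.ot.1 hy hm').mp hc'
    rw [he, pow_two, show s * s * r * (s * s * r) = s * s * (r * (s * s)) * r by group, ← hcr.eq,
      show s * s * (s * s * r) * r = s * s * (s * s) * (r * r) by group, hr2, mul_one] at h3
    exact hss (eq_one_of_sq_of_odd h3 hso)
  · rw [he] at ho
    obtain ⟨k, hk⟩ := hso
    have h4 : (s * s * r) ^ orderOf (s * s) = r := by
      rw [hcr.mul_pow, pow_orderOf_eq_one, one_mul, hk, pow_succ, pow_mul, pow_two, hr2, one_pow,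
        one_mul]
    have h5 : r = 1 := eq_one_of_sq_of_odd hr2 (h4 ▸ ho.of_dvd_nat (orderOf_pow_dvd _))
    rw [eq_inv_of_mul_eq_one_left h5, inv_self F.disc.ot.1 hm']

/-- Members with the same image are conjugate by an element fixing `x`. -/
theorem exists_conj_fibre (hu : u ∈ S) (hue : Commute u e) (hv : v ∈ S) (hve : Commute v e)
    (huv : bar u = bar v) : ∃ q : Y, q * x * q⁻¹ = x ∧ q * v * q⁻¹ = u := by
  haveI : Fact (Nat.Prime 2) := ⟨Nat.prime_two⟩
  have hx := F.memX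
  have hux := F.apart_of hu hue
  have hvx := F.apart_of hv hve
  have ho := odd_of_not_commute F.disc.ot hx hu hux
  have ho' := odd_of_not_commute F.disc.ot hx hv hvx
  set ρ := QuotientGroup.mk' (pCore 2 Y) with hρ
  have hker : ∀ g : Y, ρ g = 1 → Odd (orderOf g) → g = 1 := fun g hg ho => by
    obtain ⟨k, hk⟩ := LocalP.isPGroup_pCore (G := Y) (p := 2) ⟨g, (QuotientGroup.eq_one_iff g).mp hg⟩
    exact eq_one_of_two_pow_of_odd (congrArg Subtype.val hk) ho
  have hc : Commute u v := F.disc.commute_of_bar hu hv (huv ▸ Commute.refl _)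
  have hrc : ∀ y, Commute y (ρ (u * v)) := fun y => by
    have h1 : u * v ∈ twoZCore Y := bar_eq_one.mp (by
      rw [map_mul, huv, ← map_mul, mul_self F.disc.ot.1 hv, map_one])
    exact Subgroup.mem_center_iff.mp h1 y
  have hr1 : ρ (u * v) = 1 := by
    refine eq_one_of_sq_of_odd (by
      rw [← map_mul, ← pow_two, (commute_iff F.disc.ot.1 hu hv).mp hc, map_one]) ?_
    have he : ρ (u * v) = (ρ (x * u))⁻¹ * ρ (x * v) := by
      rw [← map_inv, ← map_mul, mul_inv_rev, inv_self F.disc.ot.1 hu, inv_self F.disc.ot.1 hx,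
        show u * x * (x * v) = u * (x * x) * v by group, mul_self F.disc.ot.1 hx, mul_one]
    have hcc : Commute (ρ (x * u))⁻¹ (ρ (x * v)) := by
      have := (hrc (ρ (x * u))).inv_left
      rw [he] at this
      simpa using ((Commute.refl (ρ (x * u))).inv_left).mul_right this
    rw [he]
    refine (Odd.mul ho ho').of_dvd_nat (hcc.orderOf_mul_dvd_mul_orderOf.trans ?_)
    rw [orderOf_inv]
    exact mul_dvd_mul (orderOf_map_dvd _ _) (orderOf_map_dvd _ _)
  have hρuv : ρ (x * v) = ρ (x * u) := by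
    rw [← mul_one (ρ (x * u)), ← hr1, ← map_mul,
      show x * u * (u * v) = x * (u * u) * v by group, mul_self F.disc.ot.1 hu, mul_one]
  have hcop : (orderOf (x * u)).Coprime (Nat.card (pCore 2 Y)) := by
    obtain ⟨k, hk⟩ := IsPGroup.iff_card.1 (LocalP.isPGroup_pCore (G := Y) (p := 2))
    rw [hk]
    exact Nat.Coprime.pow_right k ho.coprime_two_right
  obtain ⟨q, hq, hqa⟩ := exists_conj_of_coset (pCore 2 Y) (a := x * u) (b := x * v)
    (by rw [Subgroup.normalizer_eq_top]; exact Subgroup.mem_top _) hcop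
    (hker _ (by rw [map_pow, hρuv, ← map_pow, pow_orderOf_eq_one, map_one])
      (ho'.of_dvd_nat (orderOf_pow_dvd _)))
    ((QuotientGroup.eq_one_iff _).mp (by
      show ρ _ = 1
      rw [map_mul, map_inv, hρuv, mul_inv_cancel]))
  have hq1 : bar q = 1 := bar_eq_one.mpr (show ρ q ∈ Subgroup.center _ by
    rw [show ρ q = 1 from (QuotientGroup.eq_one_iff q).mpr hq]
    exact one_mem _)
  have hx' := F.disc.ot.1.conj_mem x hx q
  set x' := q * x * q⁻¹ with hx'd
  have hxx : Commute x' x := F.disc.commute_of_bar hx' hx (by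
    rw [hx'd, map_mul, map_mul, map_inv, hq1, one_mul, inv_one, mul_one])
  have hxv : x' * (x * u) * x'⁻¹ = (x * u)⁻¹ := by
    rw [hx'd, ← hqa, show q * x * q⁻¹ * (q * (x * v) * q⁻¹) * (q * x * q⁻¹)⁻¹ =
      q * (x * x * v * x⁻¹) * q⁻¹ by group, mul_self F.disc.ot.1 hx, one_mul]
    simp only [mul_inv_rev, inv_inv, inv_self F.disc.ot.1 hx, inv_self F.disc.ot.1 hv, mul_assoc]
  have hxxu : x * (x * u) * x⁻¹ = (x * u)⁻¹ := by
    rw [cancel F.disc.ot.1 hx, mul_inv_rev, inv_self F.disc.ot.1 hu, inv_self F.disc.ot.1 hx]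
  have hne : x * u ≠ 1 := fun h => hux ((eq_inv_of_mul_eq_one_left h).symm ▸ (Commute.refl u).inv_left)
  have heq : x' = x := F.inverter_unique hx' hx hxx ho hne hxv hxxu
  refine ⟨q, heq, ?_⟩
  have e1 : q * (x * v) * q⁻¹ = x' * (q * v * q⁻¹) := by rw [hx'd]; group
  rw [hqa, heq] at e1
  exact (mul_left_cancel e1).symm

end Frame

end CfsgLib.RootInv.OddCommon
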