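import Cfsg.Agent.RootInvolutions.OddCommon.Component52

/-!
A bad pair is joined by a path of length three; an involution centralising such a path and a line
is impossible; the configuration of two involutions centralising `d`, `x` and a line.
-/

set_option autoImplicit false

universe u

namespace CfsgLib.RootInv.OddCommon

open Cfsg CfsgLib.RootInv CfsgLib.RootInv99

variable {G : Type u} [Group G] {D : Set G}

/-- From a pair without common neighbour, one at distance three. -/
theorem exists_path (hc : IsConnectedSet (CommAdj D) D) {d x : G} (hd : d ∈ D) (hx : x ∈ D)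
    (hdx : ¬ Commute d x) (hbad : ¬ Common D d x) :
    ∃ a b c x' : G, a ∈ D ∧ b ∈ D ∧ c ∈ D ∧ x' ∈ D ∧ Commute a b ∧ Commute b c ∧ Commute c x' ∧
      ¬ Commute a x' ∧ ¬ Common D a x' := by
  by_contra hcon
  push Not at hcon
  have key : ∀ y, Relation.ReflTransGen (CommAdj D) d y → y ∈ D ∧ (Commute d y ∨ Common D d y) := by
    intro y h
    induction h with
    | refl => exact ⟨hd, Or.inl (Commute.refl d)⟩
    | @tail b c _ hbc ih =>
      refine ⟨hbc.2.1, ?_⟩
      by_cases hdc : Commute d c
      · exact Or.inl hdc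
      rcases ih.2 with h | ⟨w, hw, h1, h2⟩
      · exact Or.inr ⟨b, hbc.1, h.symm, hbc.2.2.2⟩
      · exact Or.inr (hcon d w b c hd hw hbc.1 hbc.2.1 h1.symm h2 hbc.2.2.2 hdc)
  rcases (key x (hc d hd x hx)).2 with h | h
  · exact hdx h
  · exact hbad h

/-- The standing hypotheses: odd transpositions, the criterion, the induction hypothesis, no central
involution. -/
structure Step (D : Set G) : Prop where
  ot : IsOddTranspositionSet D
  crit : RankOneBN.Criterion.{u}
  below : Below.{u} (Nat.card G)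
  center : ∀ z : G, orderOf z = 2 → z ∉ Subgroup.center G

variable [Finite G]

/-- Commuting is transitive on a component with a bad pair. -/
theorem Step.trans (hS : Step D) {y x p b v w : G} (hy : y ∉ Subgroup.center G) (hx : x ∈ D)
    (hxy : Commute x y) (hl : Line D p b) (hpy : Commute p y) (hby : Commute b y)
    (hpx : ¬ Commute p x) (hv : v ∈ comp D y x) (hw : w ∈ comp D y x) (hvw : ¬ Commute v w)
    (hbad : ¬ Common D v w) {a c e : G} (ha : a ∈ comp D y x) (hc : c ∈ comp D y x)
    (he : e ∈ comp D y x) (hex : ¬ Commute x e) (hae : Commute a e) (hce : Commute c e) :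
    Commute a c := by
  have hdisc := disc_comp hS.ot hS.crit hS.below hy hx hxy hl hpy hby hpx hv hw hvw hbad
  obtain ⟨F⟩ := hdisc.nonempty_frame (e := ⟨e, Subgroup.subset_closure he⟩)
    (x := ⟨x, Subgroup.subset_closure (self_mem_comp hx hxy)⟩) he (self_mem_comp hx hxy)
    (fun h => hex (congrArg Subtype.val h.eq : x * e = e * x))
  set a' : compGroup D y x := ⟨a, Subgroup.subset_closure ha⟩
  set c' : compGroup D y x := ⟨c, Subgroup.subset_closure hc⟩
  have h1 := (F.bar_mem_iff (u := a') ha).mpr (Subtype.ext hae.eq)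
  have h2 := (F.bar_mem_iff (u := c') hc).mpr (Subtype.ext hce.eq)
  have h3 := hdisc.commute_of_bar (u := a') (v := c') ha hc
    (F.commute_of_mem_H h1 (hdisc.orderOf_bar ha) h2 (hdisc.orderOf_bar hc))
  exact (congrArg Subtype.val h3.eq : a * c = c * a)

/-- An element centralising a path of length three and a line is not an involution outside the
centre. -/
theorem Step.kill (hS : Step D) {j d e f x b : G} (hj : j ∉ Subgroup.center G) (hd : d ∈ D)
    (hx : x ∈ D) (hl : Line D e b) (hf : f ∈ D) (hde : Commute d e)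
    (hef : Commute e f) (hfx : Commute f x) (hdx : ¬ Commute d x) (hbad : ¬ Common D d x)
    (hjd : Commute d j) (hje : Commute e j) (hjf : Commute f j) (hjx : Commute x j)
    (hjb : Commute b j) : False := by
  have hex : ¬ Commute e x := fun h => hbad ⟨e, hl.1, hde.symm, h⟩
  have hfd : ¬ Commute f d := fun h => hbad ⟨f, hf, h, hfx⟩
  have hxc : x ∈ comp D j x := self_mem_comp hx hjx
  have hec := mem_comp_of_not_commute hS.ot hxc hl.1 hje hex
  have hdc := mem_comp_of_not_commute hS.ot hxc hd hjd hdx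
  have hfc := mem_comp_of_not_commute hS.ot hdc hf hjf hfd
  exact hfd (hS.trans hj hx hjx hl hje hjb hex hdc hxc hdx hbad hfc hdc hec (fun h => hex h.symm)
    hef.symm hde)

/-- Two involutions centralising `d`, `x` and a line at `e`. -/
structure Config (D : Set G) (d e b f x w w' i i' : G) : Prop where
  memD : d ∈ D
  memX : x ∈ D
  memF : f ∈ D
  line : Line D e b
  de : Commute d e
  ef : Commute e f
  fx : Commute f x
  dx : ¬ Commute d x
  bad : ¬ Common D d x
  memW : w ∈ D
  memW' : w' ∈ D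
  ord : orderOf i = 2
  ord' : orderOf i' = 2
  eq : i = d * e * w
  eq' : i' = d * b * w'
  wd : Commute w d
  we : Commute w e
  wd' : Commute w' d
  we' : Commute w' b
  ix : Commute i x
  id : Commute i d
  ie : Commute i e
  ix' : Commute i' x
  id' : Commute i' d
  ie' : Commute i' b
  iw' : Commute i w'

theorem exists_config (hS : Step D) (hone : OneClass D) (hl : ∃ a b, Line D a b) {d e f x : G}
    (hd : d ∈ D) (he : e ∈ D) (hf : f ∈ D) (hx : x ∈ D) (hde : Commute d e) (hef : Commute e f)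
    (hfx : Commute f x) (hdx : ¬ Commute d x) (hbad : ¬ Common D d x) :
    ∃ e₁ e₂ w w' i i' : G, Config D d e₁ e₂ f x w w' i i' := by
  have hD := hS.ot
  obtain ⟨a, c, hac⟩ := hl
  obtain ⟨b, hb⟩ := exists_line hD.1 hone hac he
  have hdf : ¬ Commute d f := fun h => hbad ⟨f, hf, h.symm, hfx⟩
  have hex : ¬ Commute x e := fun h => hbad ⟨e, he, hde.symm, h.symm⟩
  have hdb : Commute d b := commute_of_line hD hb hd hde
  have hxb : ¬ Commute x b := fun h => hex (commute_of_line hD (Line.symm hD.1 hb) hx h)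
  have hfb : Commute f b := commute_of_line hD hb hf hef.symm
  have hdeb : Commute d (e * b) := hde.mul_right hdb
  have hxeb : ¬ Commute x (e * b) := fun h =>
    hex (commute_of_line hD (Line.symm hD.1 (Line.third hD.1 hb)) hx h)
  have hfeb : Commute f (e * b) := hef.symm.mul_right hfb
  have hl3 : Line D b (e * b) := by
    rw [(Line.commute hD.1 hb).eq]
    exact Line.third hD.1 (Line.symm hD.1 hb)
  let bad' : G → Prop := fun v => Commute (d * v * x * (d * v)⁻¹) x
  obtain ⟨e₁, e₂, hl', hg1, hg2, hde1, hde2, hfe1⟩ : ∃ e₁ e₂, Line D e₁ e₂ ∧ ¬ bad' e₁ ∧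
      ¬ bad' e₂ ∧ Commute d e₁ ∧ Commute d e₂ ∧ Commute e₁ f := by
    have n1 := not_both_bad hD hd hx hb hde hdb hex
    have n2 := not_both_bad hD hd hx (Line.third hD.1 hb) hde hdeb hex
    have n3 := not_both_bad hD hd hx hl3 hdb hdeb hxb
    by_cases h1 : bad' e
    · exact ⟨b, e * b, hl3, fun h => n1 ⟨h1, h⟩, fun h => n2 ⟨h1, h⟩, hdb, hdeb, hfb.symm⟩
    · by_cases h2 : bad' b
      · exact ⟨e, e * b, Line.third hD.1 hb, h1, fun h => n3 ⟨h2, h⟩, hde, hdeb, hef⟩
      · exact ⟨e, b, hb, h1, h2, hde, hdb, hef⟩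
  have hfe2 : Commute f e₂ := commute_of_line hD hl' hf hfe1.symm
  have hne1 : d ≠ e₁ := fun h => hdf (h ▸ hfe1)
  have hne2 : d ≠ e₂ := fun h => hdf (h ▸ hfe2.symm)
  have hn1 : d * e₁ ∉ D := fun h =>
    hdf (commute_of_line hD (Line.symm hD.1 ⟨hd, hl'.1, h⟩) hf hfe1.symm).symm
  have hn2 : d * e₂ ∉ D := fun h =>
    hdf (commute_of_line hD (Line.symm hD.1 ⟨hd, hl'.2.1, h⟩) hf hfe2).symm
  obtain ⟨w, hw, i, hi, hieq, hwd, hwe, hix, hid, hie, -⟩ :=
    exists_third hD hd hl'.1 hx hde1 hne1 hn1 hg1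
  obtain ⟨w', hw', i', hi', hieq', hwd', hwe', hix', hid', hie', hw'c⟩ :=
    exists_third hD hd hl'.2.1 hx hde2 hne2 hn2 hg2
  have hie2 : Commute i e₂ := by
    rw [hieq]
    exact (hde2.mul_left (Line.commute hD.1 hl')).mul_left (commute_of_line hD hl' hw hwe)
  exact ⟨e₁, e₂, w, w', i, i', ⟨hd, hx, hf, hl', hde1, hfe1, hfx, hdx, hbad, hw, hw', hi, hi',
    hieq, hieq', hwd, hwe, hwd', hwe', hix, hid, hie, hix', hid', hie',
    hw'c i hix (hid.mul_right hie2)⟩⟩

namespace Config

variable {d e b f x w w' i i' : G} (C : Config D d e b f x w w' i i')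
include C

/-- The elements used: the two involutions and their product. -/
def Cen (C : Config D d e b f x w w' i i') (y : G) : Prop :=
  have := C
  y * y = 1 ∧ y ≠ 1 ∧ Commute y x ∧ Commute y d ∧ Commute y e ∧ Commute y b ∧ Commute y w ∧
    Commute y w'

theorem inv_i : i * i = 1 := StronglyEmbedded.mul_self_eq_one C.ord
theorem inv_i' : i' * i' = 1 := StronglyEmbedded.mul_self_eq_one C.ord'

theorem facts (hD : IsOddTranspositionSet D) :
    Commute d b ∧ Commute e b ∧ Commute f b ∧ Commute w b ∧ Commute w' e ∧ Commute i b ∧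
      Commute i' e ∧ Commute i i' ∧ Commute w w' := by
  have hdb := commute_of_line hD C.line C.memD C.de
  have heb := Line.commute hD.1 C.line
  have hwb := commute_of_line hD C.line C.memW C.we
  have hwe' := commute_of_line hD (Line.symm hD.1 C.line) C.memW' C.we'
  have hib : Commute i b := by rw [C.eq]; exact (hdb.mul_left heb).mul_left hwb
  have hie : Commute i' e := by rw [C.eq']; exact (C.de.mul_left heb.symm).mul_left hwe'
  have hii : Commute i i' := by rw [C.eq']; exact (C.id.mul_right hib).mul_right C.iw'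
  refine ⟨hdb, heb, commute_of_line hD C.line C.memF C.ef.symm, hwb, hwe', hib, hie, hii, ?_⟩
  have e1 : w = (d * e)⁻¹ * i := by rw [C.eq, inv_mul_cancel_left]
  rw [e1]
  exact ((C.wd'.mul_right hwe').inv_right.mul_right C.iw'.symm).symm

theorem ne (hS : Step D) : i ≠ i' := by
  intro h
  have hD := hS.ot
  obtain ⟨hdb, heb, hfb, hwb, hwe', -, -, -, hww⟩ := C.facts hD
  have h1 : e * w = b * w' := by
    rw [C.eq, C.eq', mul_assoc, mul_assoc] at h
    exact mul_left_cancel h
  have h2 : w = e * b * w' := by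
    rw [mul_assoc, ← h1, ← mul_assoc, mul_self hD.1 C.line.1, one_mul]
  have hl : Line D (e * b) w' := ⟨C.line.2.2, C.memW', h2 ▸ C.memW⟩
  have hfw : Commute f w' :=
    commute_of_line hD hl C.memF (C.ef.symm.mul_right hfb)
  -- conjugation by `i'` moves `f` as `d` does, so it commutes with `f`
  have hfd : ¬ Commute d f := fun h => C.bad ⟨f, C.memF, h.symm, C.fx⟩
  have hfp : Commute f (b * w') := hfb.mul_right hfw
  have hconj : i' * f * i'⁻¹ = d * f * d := by
    have e1 : b * w' * f * (b * w')⁻¹ = f := by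
      rw [← hfp.eq, mul_inv_cancel_right]
    rw [C.eq', mul_assoc d b w', show d * (b * w') * f * (d * (b * w'))⁻¹ =
      d * (b * w' * f * (b * w')⁻¹) * d⁻¹ by group, e1, inv_self hD.1 C.memD]
  have hyc : i' ∉ Subgroup.center G := hS.center _ C.ord'
  have hf' : i' * f * i'⁻¹ ∈ D := hD.1.conj_mem f C.memF i'
  have hcomm : Commute f (i' * f * i'⁻¹) := by
    by_contra hn
    set g := mid f (i' * f * i'⁻¹)
    have hsw : Commute i' g := commute_mid_of_swap hD C.memF hf' hn rfl (by
      rw [show i' * (i' * f * i'⁻¹) * i'⁻¹ = i' * i' * f * (i' * i')⁻¹ by group, C.inv_i', one_mul,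
        inv_one, mul_one])
    have hg : g ∈ D := mid_mem hD C.memF hf' hn
    have hie := (C.facts hD).2.2.2.2.2.2.1
    have hge : g ∈ Subgroup.centralizer {e} :=
      mid_mem_of_mem (Subgroup.mem_centralizer_singleton_iff.mpr C.ef.symm.eq)
        (Subgroup.mem_centralizer_singleton_iff.mpr ((hie.mul_left C.ef.symm).mul_left hie.inv_left).eq)
    have hgx : g ∈ Subgroup.centralizer {x} :=
      mid_mem_of_mem (Subgroup.mem_centralizer_singleton_iff.mpr C.fx.eq)
        (Subgroup.mem_centralizer_singleton_iff.mpr ((C.ix'.mul_left C.fx).mul_left C.ix'.inv_left).eq)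
    exact hS.kill hyc C.memD C.memX C.line hg C.de
      (Subgroup.mem_centralizer_singleton_iff.mp hge).symm (Subgroup.mem_centralizer_singleton_iff.mp hgx)
      C.dx C.bad C.id'.symm hie.symm hsw.symm C.ix'.symm C.ie'.symm
  rw [hconj, commute_conj_iff_pow_four hD.1 C.memD C.memF] at hcomm
  exact hfd (eq_of_odd_of_pow_four hD.1 C.memF (odd_of_not_commute hD C.memD C.memF hfd) hcomm ▸
    Commute.refl _)

theorem cen_all (hS : Step D) : C.Cen i ∧ C.Cen i' ∧ C.Cen (i * i') := by
  have hD := hS.ot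
  obtain ⟨hdb, heb, -, hwb, hwe', hib, hie, hii, hww⟩ := C.facts hD
  have hiw : Commute i w := by
    rw [C.eq]; exact (C.wd.symm.mul_left C.we.symm).mul_left (Commute.refl w)
  have hiw' : Commute i' w' := by
    rw [C.eq']; exact (C.wd'.symm.mul_left C.we'.symm).mul_left (Commute.refl w')
  have hi'w : Commute i' w := by
    rw [C.eq']; exact (C.wd.symm.mul_left hwb.symm).mul_left hww.symm
  refine ⟨⟨C.inv_i, StronglyEmbedded.ne_one_of_orderOf_two C.ord, C.ix, C.id, C.ie, hib, hiw, C.iw'⟩,
    ⟨C.inv_i', StronglyEmbedded.ne_one_of_orderOf_two C.ord', C.ix', C.id', hie, C.ie', hi'w, hiw'⟩,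
    ⟨?_, ?_, C.ix.mul_left C.ix', C.id.mul_left C.id', C.ie.mul_left hie, hib.mul_left C.ie',
      hiw.mul_left hi'w, C.iw'.mul_left hiw'⟩⟩
  · rw [show i * i' * (i * i') = i * (i' * i) * i' by group, ← hii.eq,
      show i * (i * i') * i' = i * i * (i' * i') by group, C.inv_i, C.inv_i', one_mul]
  · intro h
    refine C.ne hS ?_
    rw [eq_inv_of_mul_eq_one_left h, inv_eq_of_mul_eq_one_right C.inv_i']

theorem noncentral (hS : Step D) {y : G} (hy : C.Cen y) : y ∉ Subgroup.center G :=
  hS.center y (StronglyEmbedded.orderOf_two_iff.mpr ⟨hy.1, hy.2.1⟩)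

/-- The conjugate of `f` under such an element commutes with `f` and differs from it. -/
theorem move (hS : Step D) {y : G} (hy : C.Cen y) :
    y * f * y⁻¹ ∈ D ∧ Commute f (y * f * y⁻¹) ∧ y * f * y⁻¹ ≠ f := by
  have hD := hS.ot
  have hyc := C.noncentral hS hy
  obtain ⟨hy2, -, hyx, hyd, hye, hyb, -, -⟩ := hy
  have hf' : y * f * y⁻¹ ∈ D := hD.1.conj_mem f C.memF y
  refine ⟨hf', ?_, fun h => ?_⟩
  · by_contra hn
    set g := mid f (y * f * y⁻¹)
    have hsw : Commute y g := commute_mid_of_swap hD C.memF hf' hn rfl (by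
      rw [show y * (y * f * y⁻¹) * y⁻¹ = y * y * f * (y * y)⁻¹ by group, hy2, one_mul, inv_one,
        mul_one])
    have hge : g ∈ Subgroup.centralizer {e} :=
      mid_mem_of_mem (Subgroup.mem_centralizer_singleton_iff.mpr C.ef.symm.eq)
        (Subgroup.mem_centralizer_singleton_iff.mpr ((hye.mul_left C.ef.symm).mul_left hye.inv_left).eq)
    have hgx : g ∈ Subgroup.centralizer {x} :=
      mid_mem_of_mem (Subgroup.mem_centralizer_singleton_iff.mpr C.fx.eq)
        (Subgroup.mem_centralizer_singleton_iff.mpr ((hyx.mul_left C.fx).mul_left hyx.inv_left).eq)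
    exact hS.kill hyc C.memD C.memX C.line (mid_mem hD C.memF hf' hn) C.de
      (Subgroup.mem_centralizer_singleton_iff.mp hge).symm (Subgroup.mem_centralizer_singleton_iff.mp hgx)
      C.dx C.bad hyd.symm hye.symm hsw.symm hyx.symm hyb.symm
  · exact hS.kill hyc C.memD C.memX C.line C.memF C.de C.ef C.fx C.dx C.bad hyd.symm hye.symm
      (mul_inv_eq_iff_eq_mul.mp h).symm hyx.symm hyb.symm

end Config

end CfsgLib.RootInv.OddCommon
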